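import Mathlib

set_option autoImplicit false

/-!
The functional equations coming from an automorphism of `PSL_2(F)` normalising the two
standard unipotent subgroups.
-/

namespace Cfsg.Agent.Lib.Helper43.PA

variable {F : Type*} [Field F]

theorem alg2 [Finite F] (σ ρ : F → F) (hadd : ∀ s t, σ (s + t) = σ s + σ t)
    (hinj : ∀ t, σ t = 0 → t = 0) (hρ0 : ρ 0 = 0)
    (hP : ∀ t, t ≠ 0 → σ t * ρ (-t⁻¹) = -1)
    (hV : ∀ t, t ≠ 0 → ∀ s, s ≠ 0 → ρ (-(t⁻¹) ^ 2 * s) * σ t = ρ (-t⁻¹) * σ s) :
    ∃ (d : F) (τ : F →+* F), d ≠ 0 ∧ (∀ t, σ t = d * τ t) ∧ ∀ t, ρ t = d⁻¹ * τ t := by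
  have h0 : σ 0 = 0 := by
    have := hadd 0 0
    rw [add_zero] at this
    exact left_eq_add.mp this
  have hneg : ∀ t, σ (-t) = -σ t := by
    intro t
    have := hadd t (-t)
    rw [add_neg_cancel, h0] at this
    linear_combination -this
  set d := σ 1 with hd
  have hd0 : d ≠ 0 := fun h => one_ne_zero (hinj 1 h)
  have hQ : ∀ s t, s ≠ 0 → t ≠ 0 → σ t ^ 2 = σ s * σ (t ^ 2 / s) := by
    intro s t hs ht
    have hx : t ^ 2 / s ≠ 0 := div_ne_zero (pow_ne_zero 2 ht) hs
    have e : -(t ^ 2 / s)⁻¹ = -(t⁻¹) ^ 2 * s := by field_simp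
    have h1 := hP _ hx
    rw [e] at h1
    have h2 := hV t ht s hs
    have h3 := hP t ht
    linear_combination (σ t ^ 2) * h1 - (σ (t ^ 2 / s) * σ t) * h2 - (σ (t ^ 2 / s) * σ s) * h3
  have hsq : ∀ t, σ (t ^ 2) * d = σ t ^ 2 := by
    intro t
    by_cases ht : t = 0
    · subst ht; simp [h0]
    · have := hQ 1 t one_ne_zero ht
      rw [div_one] at this
      rw [this]; ring
  have hinv : ∀ s, s ≠ 0 → σ s * σ s⁻¹ = d ^ 2 := by
    intro s hs
    have := hQ s 1 hs one_ne_zero
    rw [one_pow, one_div] at this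
    exact this.symm
  have hR : ∀ t y, t ≠ 0 → y ≠ 0 → σ (t ^ 2 * y) * d ^ 2 = σ t ^ 2 * σ y := by
    intro t y ht hy
    have h1 := hQ y⁻¹ t (inv_ne_zero hy) ht
    rw [div_inv_eq_mul] at h1
    have h2 := hinv y hy
    linear_combination (-σ (t ^ 2 * y)) * h2 - σ y * h1
  have hmul : ∀ x y, σ (x * y) * d = σ x * σ y := by
    intro x y
    by_cases h2 : (2 : F) = 0
    · by_cases hx : x = 0
      · subst hx; simp [h0]
      by_cases hy : y = 0
      · subst hy; simp [h0]
      have : CharP F 2 := CharTwo.of_one_ne_zero_of_two_eq_zero one_ne_zero h2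
      obtain ⟨r, hr⟩ := FiniteField.isSquare_of_char_two (ringChar.eq F 2) x
      have hr0 : r ≠ 0 := by
        rintro rfl
        exact hx (by rw [hr, mul_zero])
      have e1 := hR r y hr0 hy
      have e2 := hsq r
      have hx2 : x = r ^ 2 := by rw [hr, sq]
      rw [← hx2] at e1 e2
      have : d * (σ (x * y) * d - σ x * σ y) = 0 := by linear_combination e1 - σ y * e2
      rcases mul_eq_zero.mp this with h | h
      · exact absurd h hd0
      · exact sub_eq_zero.mp h
    · have e1 := hsq (x + y)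
      have e2 := hsq x
      have e3 := hsq y
      have e4 : σ ((x + y) ^ 2) = σ (x ^ 2) + σ (x * y) + σ (x * y) + σ (y ^ 2) := by
        rw [← hadd, ← hadd, ← hadd]
        congr 1
        ring
      rw [e4, hadd] at e1
      have : 2 * (σ (x * y) * d - σ x * σ y) = 0 := by linear_combination e1 - e2 - e3
      rcases mul_eq_zero.mp this with h | h
      · exact absurd h h2
      · exact sub_eq_zero.mp h
  let τ : F →+* F :=
    { toFun := fun t => σ t / d
      map_one' := div_self hd0
      map_mul' := by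
        intro x y
        have := hmul x y
        field_simp
        linear_combination this
      map_zero' := by rw [h0, zero_div]
      map_add' := by
        intro x y
        rw [hadd, add_div] }
  have hτ : ∀ t, τ t = σ t / d := fun t => rfl
  refine ⟨d, τ, hd0, fun t => ?_, fun y => ?_⟩
  · rw [hτ]; field_simp
  · rw [hτ]
    by_cases hy : y = 0
    · subst hy; rw [hρ0, h0]; simp
    have h1 := hP (-y⁻¹) (neg_ne_zero.mpr (inv_ne_zero hy))
    rw [inv_neg, inv_inv, neg_neg, hneg] at h1
    have h2 := hinv y hy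
    field_simp
    linear_combination (-ρ y) * h2 - σ y * h1

end Cfsg.Agent.Lib.Helper43.PA
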