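import Mathlib

set_option autoImplicit false

/-!
Automorphisms of `PSL_n(F)`: the standard ones (conjugation by `GL_n`, field automorphisms,
inverse-transpose), as elements of `MulAut`, with their relations.
-/

namespace Cfsg.Agent.Lib.Helper43.PA

open Matrix

variable {n : ℕ} {F : Type*} [Field F]

/-- conjugation by an invertible matrix, on `SL_n`. -/
noncomputable def conjSL : GL (Fin n) F →* MulAut (SpecialLinearGroup (Fin n) F) where
  toFun g :=
    { toFun := fun s => ⟨g.1 * s.1 * (g⁻¹ : GL (Fin n) F).1, by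
        have h : g.1.det * (g⁻¹ : GL (Fin n) F).1.det = 1 := by
          rw [← det_mul, ← Units.val_mul, mul_inv_cancel]; simp
        rw [det_mul, det_mul, s.2, mul_one, h]⟩
      invFun := fun s => ⟨(g⁻¹ : GL (Fin n) F).1 * s.1 * g.1, by
        have h : (g⁻¹ : GL (Fin n) F).1.det * g.1.det = 1 := by
          rw [← det_mul, ← Units.val_mul, inv_mul_cancel]; simp
        rw [det_mul, det_mul, s.2, mul_one, h]⟩
      left_inv := fun s => by
        apply Subtype.ext
        show (g⁻¹ : GL (Fin n) F).1 * (g.1 * s.1 * (g⁻¹ : GL (Fin n) F).1) * g.1 = s.1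
        have h : (g⁻¹ : GL (Fin n) F).1 * g.1 = 1 := by
          rw [← Units.val_mul, inv_mul_cancel]; rfl
        calc _ = ((g⁻¹ : GL (Fin n) F).1 * g.1) * s.1 * ((g⁻¹ : GL (Fin n) F).1 * g.1) := by
              simp only [Matrix.mul_assoc]
          _ = s.1 := by rw [h, Matrix.one_mul, Matrix.mul_one]
      right_inv := fun s => by
        apply Subtype.ext
        show g.1 * ((g⁻¹ : GL (Fin n) F).1 * s.1 * g.1) * (g⁻¹ : GL (Fin n) F).1 = s.1
        have h : g.1 * (g⁻¹ : GL (Fin n) F).1 = 1 := by
          rw [← Units.val_mul, mul_inv_cancel]; rfl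
        calc _ = (g.1 * (g⁻¹ : GL (Fin n) F).1) * s.1 * (g.1 * (g⁻¹ : GL (Fin n) F).1) := by
              simp only [Matrix.mul_assoc]
          _ = s.1 := by rw [h, Matrix.one_mul, Matrix.mul_one]
      map_mul' := fun s t => by
        apply Subtype.ext
        show g.1 * (s.1 * t.1) * (g⁻¹ : GL (Fin n) F).1 =
          (g.1 * s.1 * (g⁻¹ : GL (Fin n) F).1) * (g.1 * t.1 * (g⁻¹ : GL (Fin n) F).1)
        have h : (g⁻¹ : GL (Fin n) F).1 * g.1 = 1 := by
          rw [← Units.val_mul, inv_mul_cancel]; rfl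
        calc _ = g.1 * s.1 * 1 * t.1 * (g⁻¹ : GL (Fin n) F).1 := by
              simp only [Matrix.mul_assoc, Matrix.one_mul]
          _ = _ := by rw [← h]; simp only [Matrix.mul_assoc] }
  map_one' := by
    ext s : 1
    apply Subtype.ext
    show (1 : GL (Fin n) F).1 * s.1 * ((1 : GL (Fin n) F)⁻¹ : GL (Fin n) F).1 = s.1
    simp
  map_mul' g h := by
    ext s : 1
    apply Subtype.ext
    show (g * h : GL (Fin n) F).1 * s.1 * ((g * h)⁻¹ : GL (Fin n) F).1 =
      g.1 * (h.1 * s.1 * (h⁻¹ : GL (Fin n) F).1) * (g⁻¹ : GL (Fin n) F).1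
    rw [_root_.mul_inv_rev, Units.val_mul, Units.val_mul]
    simp only [Matrix.mul_assoc]

lemma conjSL_coe (g : GL (Fin n) F) (s : SpecialLinearGroup (Fin n) F) :
    (conjSL g s).1 = g.1 * s.1 * (g⁻¹ : GL (Fin n) F).1 := rfl

/-- a field automorphism applied entrywise, on `SL_n`. -/
noncomputable def fieldSL : (F ≃+* F) →* MulAut (SpecialLinearGroup (Fin n) F) where
  toFun σ :=
    { toFun := SpecialLinearGroup.map (σ : F →+* F)
      invFun := SpecialLinearGroup.map (σ.symm : F →+* F)
      left_inv := fun s => by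
        apply Subtype.ext
        ext i j
        exact σ.symm_apply_apply _
      right_inv := fun s => by
        apply Subtype.ext
        ext i j
        exact σ.apply_symm_apply _
      map_mul' := fun s t => map_mul _ s t }
  map_one' := by
    ext s : 1
    apply Subtype.ext
    ext i j
    rfl
  map_mul' σ τ := by
    ext s : 1
    apply Subtype.ext
    ext i j
    rfl

lemma fieldSL_coe (σ : F ≃+* F) (s : SpecialLinearGroup (Fin n) F) :
    (fieldSL σ s).1 = s.1.map σ := rfl

lemma transpose_mul_SL (s t : SpecialLinearGroup (Fin n) F) :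
    (s * t).transpose = t.transpose * s.transpose := by
  apply Subtype.ext
  simp [SpecialLinearGroup.coe_transpose, transpose_mul]

lemma transpose_inv_SL (s : SpecialLinearGroup (Fin n) F) :
    (s⁻¹).transpose = (s.transpose)⁻¹ := by
  apply eq_inv_of_mul_eq_one_left
  rw [← transpose_mul_SL, mul_inv_cancel]
  apply Subtype.ext
  simp [SpecialLinearGroup.coe_transpose]

lemma transpose_transpose_SL (s : SpecialLinearGroup (Fin n) F) :
    s.transpose.transpose = s := by
  apply Subtype.ext
  simp [SpecialLinearGroup.coe_transpose]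

/-- inverse-transpose on `SL_n`. -/
noncomputable def invT : MulAut (SpecialLinearGroup (Fin n) F) where
  toFun s := (s⁻¹).transpose
  invFun s := (s⁻¹).transpose
  left_inv s := by
    show (((s⁻¹).transpose)⁻¹).transpose = s
    rw [transpose_inv_SL, transpose_transpose_SL, inv_inv]
  right_inv s := by
    show (((s⁻¹).transpose)⁻¹).transpose = s
    rw [transpose_inv_SL, transpose_transpose_SL, inv_inv]
  map_mul' s t := by
    rw [_root_.mul_inv_rev, transpose_mul_SL]

lemma invT_apply (s : SpecialLinearGroup (Fin n) F) : invT s = (s⁻¹).transpose := rfl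

lemma invT_mul_invT : (invT : MulAut (SpecialLinearGroup (Fin n) F)) * invT = 1 := by
  ext s : 1
  show (((s⁻¹).transpose)⁻¹).transpose = s
  rw [transpose_inv_SL, transpose_transpose_SL, inv_inv]

/-- An automorphism of `SL_n` induces one of `PSL_n`. -/
noncomputable def pslAut : MulAut (SpecialLinearGroup (Fin n) F) →*
    MulAut (ProjectiveSpecialLinearGroup (Fin n) F) where
  toFun α := QuotientGroup.congr _ _ α
    (Subgroup.characteristic_iff_map_eq.mp inferInstance α)
  map_one' := by
    ext x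
    induction x using QuotientGroup.induction_on with
    | H s => rfl
  map_mul' α α' := by
    ext x
    induction x using QuotientGroup.induction_on with
    | H s => rfl

lemma pslAut_mk (α : MulAut (SpecialLinearGroup (Fin n) F)) (s : SpecialLinearGroup (Fin n) F) :
    pslAut α (QuotientGroup.mk s) = QuotientGroup.mk (α s) := rfl

lemma mulAut_psl_ext {β β' : MulAut (ProjectiveSpecialLinearGroup (Fin n) F)}
    (h : ∀ s : SpecialLinearGroup (Fin n) F, β (QuotientGroup.mk s) = β' (QuotientGroup.mk s)) :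
    β = β' := by
  ext x
  induction x using QuotientGroup.induction_on with
  | H s => exact h s

/-- `GL_n → Aut(PSL_n)`. -/
noncomputable def cG : GL (Fin n) F →* MulAut (ProjectiveSpecialLinearGroup (Fin n) F) :=
  pslAut.comp conjSL

/-- `Aut(F) → Aut(PSL_n)`. -/
noncomputable def fA : (F ≃+* F) →* MulAut (ProjectiveSpecialLinearGroup (Fin n) F) :=
  pslAut.comp fieldSL

/-- the inverse-transpose automorphism of `PSL_n`. -/
noncomputable def gam : MulAut (ProjectiveSpecialLinearGroup (Fin n) F) := pslAut invT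

lemma cG_mk (g : GL (Fin n) F) (s : SpecialLinearGroup (Fin n) F) :
    cG g (QuotientGroup.mk s) = QuotientGroup.mk (conjSL g s) := rfl

lemma fA_mk (σ : F ≃+* F) (s : SpecialLinearGroup (Fin n) F) :
    fA σ (QuotientGroup.mk s) = QuotientGroup.mk (fieldSL σ s) := rfl

lemma gam_mk (s : SpecialLinearGroup (Fin n) F) :
    gam (QuotientGroup.mk s) = QuotientGroup.mk (invT s) := rfl

lemma gam_mul_gam : (gam : MulAut (ProjectiveSpecialLinearGroup (Fin n) F)) * gam = 1 := by
  rw [gam, ← map_mul, invT_mul_invT, map_one]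

/-- `σ` applied to an invertible matrix. -/
noncomputable def mapGL (σ : F ≃+* F) : GL (Fin n) F →* GL (Fin n) F :=
  GeneralLinearGroup.map (σ : F →+* F)

lemma mapGL_coe (σ : F ≃+* F) (g : GL (Fin n) F) : (mapGL σ g).1 = g.1.map σ := rfl

/-- inverse transpose of an invertible matrix. -/
noncomputable def invTGL (g : GL (Fin n) F) : GL (Fin n) F :=
  ⟨(g⁻¹ : GL (Fin n) F).1.transpose, g.1.transpose, by
    rw [← transpose_mul, ← Units.val_mul, mul_inv_cancel]; simp, by
    rw [← transpose_mul, ← Units.val_mul, inv_mul_cancel]; simp⟩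

lemma invTGL_coe (g : GL (Fin n) F) : (invTGL g).1 = (g⁻¹ : GL (Fin n) F).1.transpose := rfl
lemma invTGL_inv_coe (g : GL (Fin n) F) : ((invTGL g)⁻¹ : GL (Fin n) F).1 = g.1.transpose := rfl

lemma fieldSL_mul_conjSL (σ : F ≃+* F) (g : GL (Fin n) F) :
    fieldSL σ * conjSL g = conjSL (mapGL σ g) * fieldSL σ := by
  ext s : 1
  apply Subtype.ext
  show (g.1 * s.1 * (g⁻¹ : GL (Fin n) F).1).map σ =
    (mapGL σ g).1 * s.1.map σ * ((mapGL σ g)⁻¹ : GL (Fin n) F).1
  rw [← map_inv, mapGL_coe, mapGL_coe, Matrix.map_mul, Matrix.map_mul]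

lemma invT_mul_conjSL (g : GL (Fin n) F) :
    invT * conjSL g = conjSL (invTGL g) * invT := by
  ext s : 1
  show ((conjSL g s)⁻¹).transpose = conjSL (invTGL g) ((s⁻¹).transpose)
  rw [← map_inv]
  apply Subtype.ext
  rw [SpecialLinearGroup.coe_transpose, conjSL_coe, conjSL_coe, SpecialLinearGroup.coe_transpose,
    invTGL_coe, invTGL_inv_coe, transpose_mul, transpose_mul, Matrix.mul_assoc]

lemma invT_mul_fieldSL (σ : F ≃+* F) :
    (invT : MulAut (SpecialLinearGroup (Fin n) F)) * fieldSL σ = fieldSL σ * invT := by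
  ext s : 1
  show ((fieldSL σ s)⁻¹).transpose = fieldSL σ ((s⁻¹).transpose)
  rw [← map_inv]
  apply Subtype.ext
  rw [SpecialLinearGroup.coe_transpose, fieldSL_coe, fieldSL_coe, SpecialLinearGroup.coe_transpose,
    transpose_map]

lemma fA_mul_cG (σ : F ≃+* F) (g : GL (Fin n) F) : fA σ * cG g = cG (mapGL σ g) * fA σ := by
  simp only [fA, cG, MonoidHom.comp_apply, ← map_mul, fieldSL_mul_conjSL]

lemma gam_mul_cG (g : GL (Fin n) F) : gam * cG g = cG (invTGL g) * gam := by
  simp only [gam, cG, MonoidHom.comp_apply, ← map_mul, invT_mul_conjSL]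

lemma gam_mul_fA (σ : F ≃+* F) :
    (gam : MulAut (ProjectiveSpecialLinearGroup (Fin n) F)) * fA σ = fA σ * gam := by
  simp only [gam, fA, MonoidHom.comp_apply, ← map_mul, invT_mul_fieldSL]

end Cfsg.Agent.Lib.Helper43.PA
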