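import Mathlib

set_option autoImplicit false

/-!
The automorphism group of a finite field with `p ^ f` elements is cyclic of order `f`.
-/

namespace Cfsg.Agent.Lib.Helper43.PA

variable {F : Type*} [Field F]

/-- ring automorphisms are `ZMod p`-algebra automorphisms. -/
noncomputable def ringAutEquivGal (p : ℕ) [Fact p.Prime] [Algebra (ZMod p) F] :
    (F ≃+* F) ≃* (F ≃ₐ[ZMod p] F) where
  toFun σ := AlgEquiv.ofRingEquiv (f := σ) (fun r => by
    have : ((σ : F →+* F).comp (algebraMap (ZMod p) F)) = algebraMap (ZMod p) F :=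
      Subsingleton.elim _ _
    exact RingHom.congr_fun this r)
  invFun τ := τ.toRingEquiv
  left_inv σ := by ext x; rfl
  right_inv τ := by ext x; rfl
  map_mul' σ τ := by ext x; rfl

theorem card_ringAut [Fintype F] {p f : ℕ} [hp : Fact p.Prime] (hF : Fintype.card F = p ^ f) :
    Nat.card (F ≃+* F) = f := by
  have : CharP F p := charP_of_card_eq_prime_pow hF
  letI : Algebra (ZMod p) F := ZMod.algebra F p
  rw [Nat.card_congr (ringAutEquivGal p).toEquiv,
    ← Nat.card_congr (Equiv.ofBijective _ (FiniteField.bijective_frobeniusAlgEquivOfAlgebraic_pow (ZMod p) F)),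
    Nat.card_eq_fintype_card, Fintype.card_fin]
  have h1 := Module.card_eq_pow_finrank (K := ZMod p) (V := F)
  rw [ZMod.card, hF] at h1
  exact (Nat.pow_right_injective hp.out.two_le h1).symm

theorem isCyclic_ringAut [Finite F] : IsCyclic (F ≃+* F) := by
  have := Fintype.ofFinite F
  obtain ⟨p, hp⟩ := CharP.exists F
  have hprime : Fact p.Prime := ⟨CharP.char_is_prime F p⟩
  letI : Algebra (ZMod p) F := ZMod.algebra F p
  exact isCyclic_of_surjective (ringAutEquivGal (F := F) p).symm (ringAutEquivGal (F := F) p).symm.surjective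

/-- `Aut(F) ≃ Z/f`. -/
theorem exists_ringAut_equiv [Fintype F] {p f : ℕ} [hp : Fact p.Prime] (hF : Fintype.card F = p ^ f) :
    Nonempty ((F ≃+* F) ≃* Multiplicative (ZMod f)) := by
  have := isCyclic_ringAut (F := F)
  exact ⟨(zmodCyclicMulEquiv this).symm.trans
    (by rw [card_ringAut hF])⟩

end Cfsg.Agent.Lib.Helper43.PA
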