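import Cfsg.Agent.Lib.Helper43.PA.Two2
import Cfsg.Agent.Lib.Helper43.PA.FieldAut

set_option autoImplicit false

/-!
Uniqueness of the factorisation of automorphisms of `PSL_n(F)`, and the resulting structure.
-/

namespace Cfsg.Agent.Lib.Helper43.PA

open Matrix

/-- A group `A = D · ψ(E)` with `ψ(E)` normalising `D` and meeting it trivially maps onto `E` with
kernel `D`. -/
theorem exists_hom_of_complement {A E : Type*} [Group A] [Group E] (D : Subgroup A) (ψ : E →* A)
    (h1 : ∀ x : A, ∃ d ∈ D, ∃ e, x = d * ψ e) (h2 : ∀ e, ∀ d ∈ D, ψ e * d * (ψ e)⁻¹ ∈ D)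
    (h3 : ∀ e, ψ e ∈ D → e = 1) :
    ∃ θ : A →* E, Function.Surjective θ ∧ θ.ker = D := by
  have hN : D.Normal := ⟨by
    intro d hd x
    obtain ⟨d0, hd0, e, rfl⟩ := h1 x
    have : d0 * ψ e * d * (d0 * ψ e)⁻¹ = d0 * (ψ e * d * (ψ e)⁻¹) * d0⁻¹ := by group
    rw [this]
    exact D.mul_mem (D.mul_mem hd0 (h2 e d hd)) (D.inv_mem hd0)⟩
  let f : E →* A ⧸ D := (QuotientGroup.mk' D).comp ψ
  have hf : Function.Bijective f := by
    constructor
    · rw [injective_iff_map_eq_one]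
      intro e he
      exact h3 e ((QuotientGroup.eq_one_iff _).mp he)
    · intro y
      obtain ⟨x, rfl⟩ := QuotientGroup.mk'_surjective D y
      obtain ⟨d, hd, e, rfl⟩ := h1 x
      refine ⟨e, ?_⟩
      show (QuotientGroup.mk' D) (ψ e) = (QuotientGroup.mk' D) (d * ψ e)
      have hd1 : (QuotientGroup.mk' D) d = 1 := (QuotientGroup.eq_one_iff d).mpr hd
      rw [map_mul, hd1, one_mul]
  let ef : E ≃* A ⧸ D := MulEquiv.ofBijective f hf
  refine ⟨ef.symm.toMonoidHom.comp (QuotientGroup.mk' D), ?_, ?_⟩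
  · exact ef.symm.surjective.comp (QuotientGroup.mk'_surjective D)
  · ext x
    rw [MonoidHom.mem_ker]
    show ef.symm (QuotientGroup.mk' D x) = 1 ↔ _
    rw [map_eq_one_iff _ ef.symm.injective]
    exact QuotientGroup.eq_one_iff x

variable {n : ℕ} {F : Type*} [Field F]

lemma X_coe {i j : Fin n} (hij : i ≠ j) (t : F) : (X i j t).1 = 1 + single i j t := by
  rw [X_eq hij, Matrix.SpecialLinearGroup.transvection_coe]

/-- an invertible matrix whose conjugation fixes the classes of all `X i j 1` is central. -/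
lemma mem_center_of_fix (hn : 1 ≤ n) {g : GL (Fin n) F}
    (h : ∀ i j : Fin n, i ≠ j → cG g (QuotientGroup.mk (X i j 1)) = QuotientGroup.mk (X i j 1)) :
    g ∈ Subgroup.center (GL (Fin n) F) := by
  rw [GeneralLinearGroup.mem_center_iff_val_mem_range_scalar]
  apply mem_range_scalar_of_commute_single
  intro i j hij
  have h1 := h i j hij
  rw [cG_mk] at h1
  have h2 : conjSL g (X i j 1) = X i j 1 :=
    ((isTv_tv _ _).conjSL g).eq_of_mk_eq hn (isTv_tv _ _) h1
  have h3 : (conjSL g (X i j 1)).1 = (X i j 1).1 := by rw [h2]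
  rw [conjSL_coe, X_coe hij] at h3
  have h4 : g.1 * (1 + single i j 1) = (1 + single i j 1) * g.1 := by
    have h5 : (g⁻¹ : GL (Fin n) F).1 * g.1 = 1 := by
      rw [← Units.val_mul, inv_mul_cancel]; rfl
    calc g.1 * (1 + single i j 1) = g.1 * (1 + single i j 1) * ((g⁻¹ : GL (Fin n) F).1 * g.1) := by
          rw [h5, Matrix.mul_one]
      _ = (g.1 * (1 + single i j 1) * (g⁻¹ : GL (Fin n) F).1) * g.1 := by
          simp only [Matrix.mul_assoc]
      _ = _ := by rw [h3]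
  rw [mul_add, add_mul, Matrix.mul_one, Matrix.one_mul] at h4
  exact (add_left_cancel h4).symm

lemma cG_eq_one_of_mem_center {g : GL (Fin n) F} (hg : g ∈ Subgroup.center (GL (Fin n) F)) :
    cG g = 1 := by
  apply mulAut_psl_ext
  intro s
  rw [cG_mk]
  congr 1
  apply SL_ext
  rw [conjSL_coe]
  have h1 := congrArg Units.val (Subgroup.mem_center_iff.mp hg (SpecialLinearGroup.toGL s))
  have h2 : s.1 * g.1 = g.1 * s.1 := h1
  rw [← h2, Matrix.mul_assoc, ← Units.val_mul, mul_inv_cancel]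
  simp

lemma ker_cG (hn : 1 ≤ n) : (cG : GL (Fin n) F →* _).ker = Subgroup.center (GL (Fin n) F) := by
  ext g
  rw [MonoidHom.mem_ker]
  constructor
  · intro h
    apply mem_center_of_fix hn
    intro i j _
    rw [h]; rfl
  · exact cG_eq_one_of_mem_center

lemma fA_mem_range_cG (hn : 2 ≤ n) {σ : F ≃+* F}
    (h : (fA σ : MulAut (ProjectiveSpecialLinearGroup (Fin n) F)) ∈ (cG : GL (Fin n) F →* _).range) :
    σ = 1 := by
  obtain ⟨g, hg⟩ := h
  have h1 : g ∈ Subgroup.center (GL (Fin n) F) := by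
    apply mem_center_of_fix (by omega)
    intro i j hij
    rw [hg, fA_mk, fieldSL_X σ hij, map_one]
  rw [cG_eq_one_of_mem_center h1] at hg
  ext t
  have hne : (⟨0, by omega⟩ : Fin n) ≠ ⟨1, by omega⟩ := by simp [Fin.ext_iff]
  have h2 : fA σ (QuotientGroup.mk (X (⟨0, by omega⟩ : Fin n) ⟨1, by omega⟩ t)) =
      QuotientGroup.mk (X (⟨0, by omega⟩ : Fin n) ⟨1, by omega⟩ t) := by
    rw [← hg]; rfl
  rw [fA_mk, fieldSL_X σ hne] at h2
  exact mk_X_inj (by omega) hne h2

lemma invT_X {i j : Fin n} (hij : i ≠ j) (t : F) : invT (X i j t) = X j i (-t) := by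
  unfold X
  rw [invT_tv (X_orth hij t), ← neg_smul, ← tv_smul_comm]

lemma fA_gam_not_mem_range_cG (hn : 3 ≤ n) (σ : F ≃+* F) :
    (fA σ * gam : MulAut (ProjectiveSpecialLinearGroup (Fin n) F)) ∉ (cG : GL (Fin n) F →* _).range := by
  rintro ⟨g, hg⟩
  let c0 : Fin n := ⟨0, by omega⟩
  let c1 : Fin n := ⟨1, by omega⟩
  let c2 : Fin n := ⟨2, by omega⟩
  have h01 : c0 ≠ c1 := by simp [c0, c1, Fin.ext_iff]
  have h12 : c1 ≠ c2 := by simp [c1, c2, Fin.ext_iff]
  have h02 : c0 ≠ c2 := by simp [c0, c2, Fin.ext_iff]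
  have key : ∀ j, c0 ≠ j → Par (g.1 *ᵥ ((1 : F) • Pi.single c0 1)) ((-1 : F) • Pi.single j 1) := by
    intro j hj
    have e : cG g (QuotientGroup.mk (X c0 j 1)) = QuotientGroup.mk (X j c0 (-1)) := by
      rw [hg, MulAut.mul_apply, gam_mk, invT_X hj, fA_mk, fieldSL_X σ hj.symm, map_neg, map_one]
    rw [cG_mk] at e
    have e2 := ((isTv_tv _ _).conjSL g).eq_of_mk_eq (by omega) (isTv_tv _ _) e
    rw [conjSL_tv g (X_orth hj 1)] at e2
    refine par_of_tv_eq (conj_orth g (X_orth hj 1)) (X_orth hj.symm (-1)) ?_ e2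
    intro h0
    rw [h0, tv_zero_right] at e2
    have e3 := mk_X_ne_one (F := F) hj.symm (neg_ne_zero.mpr one_ne_zero)
    unfold X at e3
    rw [← e2, QuotientGroup.mk_one] at e3
    exact e3 rfl
  have hne : g.1 *ᵥ ((1 : F) • Pi.single c0 1) ≠ 0 := by
    intro h0
    have h3 : (g⁻¹ : GL (Fin n) F).1 *ᵥ (g.1 *ᵥ ((1 : F) • Pi.single c0 1)) = 0 := by
      rw [h0, mulVec_zero]
    rw [mulVec_mulVec, ← Units.val_mul, inv_mul_cancel] at h3
    have := congrFun h3 c0
    simp at this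
  have hpar := (key c1 h01).symm.trans hne (key c2 h02)
  have := hpar c1 c2
  simp [h12, h12.symm] at this

end Cfsg.Agent.Lib.Helper43.PA
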