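import Mathlib
import Cfsg.Agent.Lib.Helper43.PA.Basic

set_option autoImplicit false

namespace Cfsg.Agent.Lib.Helper43.PA

open Matrix

variable {n : ℕ} {F : Type*} [Field F]

/-- partial norms `g σ(g) ⋯ σ^{k-1}(g)`. -/
noncomputable def nrm (σ : F ≃+* F) (g : GL (Fin n) F) : ℕ → GL (Fin n) F
  | 0 => 1
  | k + 1 => g * mapGL σ (nrm σ g k)

lemma nrm_zero (σ : F ≃+* F) (g : GL (Fin n) F) : nrm σ g 0 = 1 := rfl
lemma nrm_succ (σ : F ≃+* F) (g : GL (Fin n) F) (k : ℕ) :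
    nrm σ g (k + 1) = g * mapGL σ (nrm σ g k) := rfl

lemma mapGL_mul' (σ τ : F ≃+* F) (g : GL (Fin n) F) : mapGL (σ * τ) g = mapGL σ (mapGL τ g) := by
  apply Units.ext
  ext i j
  rfl

lemma mapGL_one' (g : GL (Fin n) F) : mapGL (1 : F ≃+* F) g = g := by
  apply Units.ext
  ext i j
  rfl

lemma nrm_succ' (σ : F ≃+* F) (g : GL (Fin n) F) (k : ℕ) :
    nrm σ g (k + 1) = nrm σ g k * mapGL (σ ^ k) g := by
  induction k with
  | zero => simp [nrm_succ, nrm_zero, mapGL_one']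
  | succ k ih =>
    rw [nrm_succ σ g (k + 1), ih, map_mul, ← mul_assoc, ← nrm_succ, ← mapGL_mul', ← pow_succ', ih]

lemma pow_cG_fA (σ : F ≃+* F) (g : GL (Fin n) F) (k : ℕ) :
    (cG g * fA σ) ^ k = cG (nrm σ g k) * fA (σ ^ k) := by
  induction k with
  | zero => simp [nrm_zero]
  | succ k ih =>
    rw [pow_succ', ih, nrm_succ, map_mul, pow_succ', map_mul, mul_assoc, ← mul_assoc (fA σ),
      fA_mul_cG]
    simp only [mul_assoc]

/-- the Poincare series. -/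
noncomputable def poin (σ : F ≃+* F) (g : GL (Fin n) F) (k : ℕ) (c : Fin n → F) : Fin n → F :=
  ∑ i ∈ Finset.range k, (nrm σ g i).1 *ᵥ (⇑(σ ^ i) ∘ c)

lemma comp_mulVec (σ : F ≃+* F) (M : Matrix (Fin n) (Fin n) F) (v : Fin n → F) :
    ⇑σ ∘ (M *ᵥ v) = (M.map σ) *ᵥ (⇑σ ∘ v) := by
  funext i
  exact RingHom.map_mulVec (σ : F →+* F) M v i

lemma comp_sum (σ : F ≃+* F) {ι : Type*} (s : Finset ι) (v : ι → Fin n → F) :
    ⇑σ ∘ (∑ i ∈ s, v i) = ∑ i ∈ s, ⇑σ ∘ v i := by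
  funext j
  simp [Finset.sum_apply]

lemma poin_fix (σ : F ≃+* F) (g : GL (Fin n) F) (k : ℕ) (hσ : σ ^ k = 1) (hg : nrm σ g k = 1)
    (c : Fin n → F) : g.1 *ᵥ (⇑σ ∘ poin σ g k c) = poin σ g k c := by
  have step : ∀ i, g.1 *ᵥ (⇑σ ∘ ((nrm σ g i).1 *ᵥ (⇑(σ ^ i) ∘ c))) =
      (nrm σ g (i + 1)).1 *ᵥ (⇑(σ ^ (i + 1)) ∘ c) := by
    intro i
    rw [comp_mulVec, mulVec_mulVec, nrm_succ, Units.val_mul, mapGL_coe, pow_succ']
    rfl
  unfold poin
  rw [comp_sum, mulVec_sum]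
  simp only [step]
  have h1 := Finset.sum_range_succ (fun i => (nrm σ g i).1 *ᵥ (⇑(σ ^ i) ∘ c)) k
  have h2 := Finset.sum_range_succ' (fun i => (nrm σ g i).1 *ᵥ (⇑(σ ^ i) ∘ c)) k
  rw [h1] at h2
  have h3 : (nrm σ g k).1 *ᵥ (⇑(σ ^ k) ∘ c) = (nrm σ g 0).1 *ᵥ (⇑(σ ^ 0) ∘ c) := by
    rw [hg, hσ, nrm_zero, pow_zero]
  rw [h3] at h2
  exact (add_right_cancel h2).symm

lemma dedekind (σ : F ≃+* F) (k : ℕ) (hk : orderOf σ = k) (a : ℕ → F)
    (h : ∀ t : F, ∑ i ∈ Finset.range k, a i * (σ ^ i) t = 0) : ∀ i < k, a i = 0 := by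
  have hli := linearIndependent_monoidHom F F
  have hinj : Function.Injective (fun i : Fin k => (((σ ^ (i : ℕ) : F ≃+* F) : F →+* F) : F →* F)) := by
    intro i j hij
    have h1 : σ ^ (i : ℕ) = σ ^ (j : ℕ) := by
      ext t
      exact DFunLike.congr_fun hij t
    apply Fin.ext
    exact pow_injOn_Iio_orderOf (by simp [hk]) (by simp [hk]) h1
  have hli2 := hli.comp _ hinj
  rw [Fintype.linearIndependent_iff] at hli2
  intro i hi
  refine hli2 (fun i => a i) ?_ ⟨i, hi⟩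
  funext t
  have := h t
  rw [← Fin.sum_univ_eq_sum_range (fun i => a i * (σ ^ i) t)] at this
  simpa [Finset.sum_apply] using this

lemma poin_span (σ : F ≃+* F) (g : GL (Fin n) F) (k : ℕ) (hk : orderOf σ = k) (hk0 : 0 < k) :
    Submodule.span F (Set.range (poin σ g k)) = ⊤ := by
  by_contra hne
  obtain ⟨f, hf0, hf⟩ := Submodule.exists_le_ker_of_lt_top _ (lt_top_iff_ne_top.2 hne)
  apply hf0
  apply LinearMap.pi_ext'
  intro j
  apply LinearMap.ext_ring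
  have key : ∀ t : F, ∑ i ∈ Finset.range k, f ((nrm σ g i).1 *ᵥ Pi.single j 1) * (σ ^ i) t = 0 := by
    intro t
    have h1 : f (poin σ g k (Pi.single j t)) = 0 :=
      hf (Submodule.subset_span ⟨_, rfl⟩)
    unfold poin at h1
    rw [map_sum] at h1
    rw [← h1]
    apply Finset.sum_congr rfl
    intro i _
    have h2 : (⇑(σ ^ i) ∘ (Pi.single j t : Fin n → F)) = ((σ ^ i) t) • (Pi.single j 1 : Fin n → F) := by
      funext l
      by_cases hl : l = j
      · subst hl; simp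
      · simp [Pi.single_eq_of_ne hl]
    rw [h2, mulVec_smul, map_smul, smul_eq_mul, mul_comm]
  have := dedekind σ k hk _ key 0 hk0
  rw [nrm_zero, Units.val_one, one_mulVec] at this
  simpa using this

/-- Hilbert 90 for `GL_n`. -/
theorem hilbert90_GL (σ : F ≃+* F) (g : GL (Fin n) F) (k : ℕ) (hk : orderOf σ = k) (hk0 : 0 < k)
    (hg : nrm σ g k = 1) : ∃ h : GL (Fin n) F, g = h * (mapGL σ h)⁻¹ := by
  have hσ : σ ^ k = 1 := hk ▸ pow_orderOf_eq_one σ
  have hspan := poin_span σ g k hk hk0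
  obtain ⟨v, hv, -, hli⟩ := Submodule.exists_fun_fin_finrank_span_eq F (Set.range (poin σ g k))
  have hfin : Module.finrank F (Submodule.span F (Set.range (poin σ g k))) = n := by
    rw [hspan, finrank_top]; simp
  let w : Fin n → Fin n → F := v ∘ Fin.cast hfin.symm
  have hwli : LinearIndependent F w := hli.comp _ (Fin.cast_injective _)
  have hw : ∀ j, g.1 *ᵥ (⇑σ ∘ w j) = w j := by
    intro j
    obtain ⟨c, hc⟩ := hv (Fin.cast hfin.symm j)
    show g.1 *ᵥ (⇑σ ∘ v (Fin.cast hfin.symm j)) = v (Fin.cast hfin.symm j)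
    rw [← hc]
    exact poin_fix σ g k hσ hg c
  let P : Matrix (Fin n) (Fin n) F := (Matrix.of w)ᵀ
  have hP : IsUnit P := by
    rw [← Matrix.linearIndependent_cols_iff_isUnit]
    exact hwli
  have hgP : g.1 * P.map σ = P := by
    ext i j
    have := congrFun (hw j) i
    simpa [Matrix.mul_apply, Matrix.mulVec, dotProduct, P] using this
  refine ⟨hP.unit, ?_⟩
  rw [eq_mul_inv_iff_mul_eq]
  apply Units.ext
  rw [Units.val_mul, mapGL_coe]
  exact hgP

end Cfsg.Agent.Lib.Helper43.PA
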