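import Mathlib
import Cfsg.Agent.Lib.Helper43.PA.H90
import Cfsg.Agent.Lib.Helper43.PA.Count

set_option autoImplicit false

namespace Cfsg.Agent.Lib.Helper43.PA

open Matrix

variable {n : ℕ} {F : Type*} [Field F]

/-- scalar matrices in `GL_n`. -/
noncomputable def scGL : Fˣ →* GL (Fin n) F := Units.map (Matrix.scalar (Fin n)).toMonoidHom

lemma scGL_coe (u : Fˣ) : (scGL u : GL (Fin n) F).1 = Matrix.scalar (Fin n) (u : F) := rfl

lemma scGL_comm (u : Fˣ) (g : GL (Fin n) F) : scGL u * g = g * scGL u := by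
  apply Units.ext
  rw [Units.val_mul, Units.val_mul, scGL_coe]
  exact (Matrix.scalar_commute (u : F) (fun r => mul_comm _ _) g.1)

lemma scGL_mem_center (u : Fˣ) : (scGL u : GL (Fin n) F) ∈ Subgroup.center (GL (Fin n) F) := by
  rw [Subgroup.mem_center_iff]
  intro g
  exact (scGL_comm u g).symm

lemma exists_scGL_of_mem_center {g : GL (Fin n) F} (hg : g ∈ Subgroup.center (GL (Fin n) F))
    (hn : 1 ≤ n) : ∃ u : Fˣ, g = scGL u := by
  rw [GeneralLinearGroup.mem_center_iff_val_mem_range_scalar] at hg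
  obtain ⟨a, ha⟩ := hg
  have ha0 : a ≠ 0 := by
    rintro rfl
    have h1 : g.1 = 0 := by rw [← ha]; simp
    have h2 := g.isUnit
    rw [h1] at h2
    have : Nonempty (Fin n) := ⟨⟨0, by omega⟩⟩
    exact not_isUnit_zero h2
  exact ⟨Units.mk0 a ha0, Units.ext ha.symm⟩

lemma cG_scGL (u : Fˣ) : cG (scGL u : GL (Fin n) F) = 1 :=
  cG_eq_one_of_mem_center (scGL_mem_center u)

lemma cG_scGL_mul (u : Fˣ) (g : GL (Fin n) F) : cG (scGL u * g) = cG g := by
  rw [map_mul, cG_scGL, one_mul]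

lemma exists_scGL_of_cG_eq (hn : 1 ≤ n) {g h : GL (Fin n) F} (e : cG g = cG h) :
    ∃ u : Fˣ, g = scGL u * h := by
  have h1 : g * h⁻¹ ∈ (cG : GL (Fin n) F →* _).ker := by
    rw [MonoidHom.mem_ker, map_mul, map_inv, e, mul_inv_cancel]
  rw [ker_cG hn] at h1
  obtain ⟨u, hu⟩ := exists_scGL_of_mem_center h1 hn
  exact ⟨u, by rw [← hu, inv_mul_cancel_right]⟩

/-- `σ` on units. -/
noncomputable def uM (σ : F ≃+* F) : Fˣ →* Fˣ := Units.map (σ : F →* F)

lemma uM_coe (σ : F ≃+* F) (u : Fˣ) : ((uM σ u : Fˣ) : F) = σ u := rfl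

lemma mapGL_scGL (σ : F ≃+* F) (u : Fˣ) :
    mapGL σ (scGL u : GL (Fin n) F) = scGL (uM σ u) := by
  apply Units.ext
  rw [mapGL_coe, scGL_coe, scGL_coe, uM_coe]
  ext i j
  by_cases h : i = j
  · subst h; simp
  · simp [Matrix.scalar_apply, Matrix.diagonal_apply_ne _ h]

/-- partial norms of scalars. -/
noncomputable def nU (σ : F ≃+* F) (u : Fˣ) : ℕ → Fˣ
  | 0 => 1
  | k + 1 => u * uM σ (nU σ u k)

lemma nU_zero (σ : F ≃+* F) (u : Fˣ) : nU σ u 0 = 1 := rfl
lemma nU_succ (σ : F ≃+* F) (u : Fˣ) (k : ℕ) : nU σ u (k + 1) = u * uM σ (nU σ u k) := rfl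

lemma nU_mul (σ : F ≃+* F) (u v : Fˣ) (k : ℕ) : nU σ (u * v) k = nU σ u k * nU σ v k := by
  induction k with
  | zero => simp [nU_zero]
  | succ k ih => rw [nU_succ, nU_succ, nU_succ, ih, map_mul]; exact mul_mul_mul_comm _ _ _ _

lemma nU_one (σ : F ≃+* F) (k : ℕ) : nU σ 1 k = 1 := by
  induction k with
  | zero => rfl
  | succ k ih => rw [nU_succ, ih]; simp

/-- the norm as a homomorphism. -/
noncomputable def nHom (σ : F ≃+* F) (k : ℕ) : Fˣ →* Fˣ where
  toFun u := nU σ u k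
  map_one' := nU_one σ k
  map_mul' u v := nU_mul σ u v k

lemma nHom_apply (σ : F ≃+* F) (k : ℕ) (u : Fˣ) : nHom σ k u = nU σ u k := rfl

lemma nrm_scGL_mul (σ : F ≃+* F) (u : Fˣ) (g : GL (Fin n) F) (k : ℕ) :
    nrm σ (scGL u * g) k = scGL (nU σ u k) * nrm σ g k := by
  induction k with
  | zero => simp [nrm_zero, nU_zero]
  | succ k ih =>
    rw [nrm_succ, ih, nrm_succ, nU_succ, map_mul, map_mul, mapGL_scGL, mul_assoc, mul_assoc,
      ← mul_assoc g, ← scGL_comm _ g]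
    simp only [mul_assoc]

lemma nrm_scGL (σ : F ≃+* F) (u : Fˣ) (k : ℕ) :
    nrm σ (scGL u : GL (Fin n) F) k = scGL (nU σ u k) := by
  have := nrm_scGL_mul σ u (1 : GL (Fin n) F) k
  have h1 : ∀ k, nrm σ (1 : GL (Fin n) F) k = 1 := by
    intro k
    induction k with
    | zero => rfl
    | succ k ih => rw [nrm_succ, ih]; simp
  rwa [mul_one, h1, mul_one] at this

lemma scGL_injective (hn : 1 ≤ n) : Function.Injective (scGL : Fˣ →* GL (Fin n) F) := by
  intro u v h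
  have h1 := congrArg (fun g : GL (Fin n) F => g.1 ⟨0, by omega⟩ ⟨0, by omega⟩) h
  simp only [scGL_coe, Matrix.scalar_apply, Matrix.diagonal_apply_eq] at h1
  exact Units.ext h1

/-- Hilbert 90 for scalars. -/
theorem hilbert90_units (σ : F ≃+* F) (u : Fˣ) (k : ℕ) (hk : orderOf σ = k) (hk0 : 0 < k)
    (hu : nU σ u k = 1) : ∃ v : Fˣ, u = v * (uM σ v)⁻¹ := by
  obtain ⟨h, hh⟩ := hilbert90_GL σ (scGL u : GL (Fin 1) F) k hk hk0 (by rw [nrm_scGL, hu, map_one])
  rw [eq_mul_inv_iff_mul_eq] at hh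
  have h1 := congrArg (fun g : GL (Fin 1) F => g.1 0 0) hh
  simp only [Units.val_mul, scGL_coe, mapGL_coe, Matrix.mul_apply, Fin.sum_univ_one,
    Matrix.scalar_apply, Matrix.diagonal_apply_eq, Matrix.map_apply] at h1
  have h0 : h.1 0 0 ≠ 0 := by
    have h2 : IsUnit h.1.det := (Matrix.isUnit_iff_isUnit_det _).1 h.isUnit
    rw [Matrix.det_fin_one] at h2
    exact h2.ne_zero
  refine ⟨Units.mk0 _ h0, ?_⟩
  rw [eq_mul_inv_iff_mul_eq]
  exact Units.ext h1

lemma nU_succ' (σ : F ≃+* F) (u : Fˣ) (k : ℕ) : nU σ u (k + 1) = nU σ u k * uM (σ ^ k) u := by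
  apply scGL_injective (n := 1) le_rfl
  rw [← nrm_scGL, nrm_succ', nrm_scGL, mapGL_scGL, map_mul]

lemma uM_nU (σ : F ≃+* F) (u : Fˣ) (k : ℕ) (hσ : σ ^ k = 1) : uM σ (nU σ u k) = nU σ u k := by
  have h1 := nU_succ σ u k
  rw [nU_succ', hσ] at h1
  have h2 : uM (1 : F ≃+* F) u = u := Units.ext rfl
  rw [h2, mul_comm] at h1
  exact (mul_left_cancel h1).symm

/-- the units fixed by `σ`. -/
def fixU (σ : F ≃+* F) : Subgroup Fˣ where
  carrier := {u | uM σ u = u}
  one_mem' := map_one _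
  mul_mem' := by
    intro a b ha hb
    show uM σ (a * b) = a * b
    rw [map_mul, ha, hb]
  inv_mem' := by
    intro a ha
    show uM σ a⁻¹ = a⁻¹
    rw [map_inv, ha]

lemma mem_fixU {σ : F ≃+* F} {u : Fˣ} : u ∈ fixU σ ↔ uM σ u = u := Iff.rfl

/-- the Lang map on units. -/
noncomputable def langU (σ : F ≃+* F) : Fˣ →* Fˣ where
  toFun v := v * (uM σ v)⁻¹
  map_one' := by simp
  map_mul' a b := by
    rw [map_mul, _root_.mul_inv_rev, mul_comm (uM σ b)⁻¹]
    exact mul_mul_mul_comm _ _ _ _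

lemma langU_apply (σ : F ≃+* F) (v : Fˣ) : langU σ v = v * (uM σ v)⁻¹ := rfl

lemma ker_langU (σ : F ≃+* F) : (langU σ).ker = fixU σ := by
  ext v
  rw [MonoidHom.mem_ker, langU_apply, mem_fixU, mul_inv_eq_one, eq_comm]

lemma nU_langU (σ : F ≃+* F) (v : Fˣ) (k : ℕ) (hσ : σ ^ k = 1) : nU σ (langU σ v) k = 1 := by
  have h : ∀ j, nU σ (langU σ v) j = v * (uM (σ ^ j) v)⁻¹ := by
    intro j
    induction j with
    | zero =>
      have h2 : uM (1 : F ≃+* F) v = v := Units.ext rfl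
      rw [nU_zero, pow_zero, h2, mul_inv_cancel]
    | succ j ih =>
      rw [nU_succ, ih, langU_apply, map_mul, map_inv, pow_succ']
      have h3 : uM σ (uM (σ ^ j) v) = uM (σ * σ ^ j) v := Units.ext rfl
      rw [h3, mul_assoc, inv_mul_cancel_left]
  rw [h, hσ]
  have h2 : uM (1 : F ≃+* F) v = v := Units.ext rfl
  rw [h2, mul_inv_cancel]

lemma ker_nHom (σ : F ≃+* F) (k : ℕ) (hk : orderOf σ = k) (hk0 : 0 < k) :
    (nHom σ k).ker = (langU σ).range := by
  have hσ : σ ^ k = 1 := hk ▸ pow_orderOf_eq_one σ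
  ext u
  rw [MonoidHom.mem_ker, nHom_apply, MonoidHom.mem_range]
  constructor
  · intro h
    obtain ⟨v, hv⟩ := hilbert90_units σ u k hk hk0 h
    exact ⟨v, hv.symm⟩
  · rintro ⟨v, rfl⟩
    exact nU_langU σ v k hσ

/-- the norm is onto the fixed units (finite fields). -/
theorem range_nHom [Finite F] (σ : F ≃+* F) (k : ℕ) (hk : orderOf σ = k) (hk0 : 0 < k) :
    (nHom σ k).range = fixU σ := by
  have hσ : σ ^ k = 1 := hk ▸ pow_orderOf_eq_one σ
  have hle : (nHom σ k).range ≤ fixU σ := by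
    rintro _ ⟨u, rfl⟩
    exact uM_nU σ u k hσ
  apply Subgroup.eq_of_le_of_card_ge hle
  have h1 := Subgroup.card_mul_index (nHom σ k).ker
  have h2 := Subgroup.card_mul_index (langU σ).ker
  rw [Subgroup.index_ker] at h1 h2
  rw [ker_nHom σ k hk hk0] at h1
  rw [ker_langU] at h2
  have h3 : 0 < Nat.card (langU σ).range := Nat.card_pos
  have h4 : Nat.card (langU σ).range * Nat.card (nHom σ k).range =
      Nat.card (langU σ).range * Nat.card (fixU σ) := by rw [h1, mul_comm, h2]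
  exact (Nat.eq_of_mul_eq_mul_left h3 h4).ge

theorem exists_nU_eq [Finite F] (σ : F ≃+* F) (k : ℕ) (hk : orderOf σ = k) (hk0 : 0 < k) (u : Fˣ)
    (hu : uM σ u = u) : ∃ v : Fˣ, nU σ v k = u := by
  have : u ∈ (nHom σ k).range := by rw [range_nHom σ k hk hk0]; exact hu
  exact this

end Cfsg.Agent.Lib.Helper43.PA
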