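import Mathlib
import Cfsg.Agent.Lib.Helper43.PA.H90Scalar
import Cfsg.Agent.Lib.Helper43.PA.FieldAut

set_option autoImplicit false

namespace Cfsg.Agent.Lib.Helper43.PA

open Module

variable {F : Type*} [Field F]

/-- the fixed field of `σ`. -/
noncomputable def fixK (σ : F ≃+* F) : Subfield F := FixedPoints.subfield (Subgroup.zpowers σ) F

lemma mem_fixK {σ : F ≃+* F} {x : F} : x ∈ fixK σ ↔ σ x = x := by
  constructor
  · intro h
    exact h ⟨σ, Subgroup.mem_zpowers σ⟩
  · intro h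
    rintro ⟨τ, hτ⟩
    show τ x = x
    have hmem : τ ∈ (MulAction.stabilizer (F ≃+* F) x) := by
      have h1 : Subgroup.zpowers σ ≤ MulAction.stabilizer (F ≃+* F) x := by
        rw [Subgroup.zpowers_le]
        exact h
      exact h1 hτ
    exact hmem

theorem orderOf_dvd_of_card [Fintype F] {p f : ℕ} [Fact p.Prime] (hF : Fintype.card F = p ^ f)
    (σ : F ≃+* F) : orderOf σ ∣ f := by
  have := orderOf_dvd_natCard σ
  rwa [card_ringAut hF] at this

theorem card_fixK [Fintype F] {p f : ℕ} [hp : Fact p.Prime] (hF : Fintype.card F = p ^ f)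
    (hf : 1 ≤ f) (σ : F ≃+* F) : Nat.card (fixK σ) = p ^ (f / orderOf σ) := by
  have hfin : Finite (F ≃+* F) := Finite.of_injective (fun e => (e : F → F)) DFunLike.coe_injective
  have : Fintype (Subgroup.zpowers σ) := Fintype.ofFinite _
  have h1 : finrank (fixK σ) F = orderOf σ := by
    unfold fixK
    rw [FixedPoints.finrank_eq_card, Fintype.card_eq_nat_card, Nat.card_zpowers]
  have h2 := Module.natCard_eq_pow_finrank (K := fixK σ) (V := F)
  rw [h1, Nat.card_eq_fintype_card, hF] at h2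
  obtain ⟨m, hm⟩ := orderOf_dvd_of_card hF σ
  have hpos : 0 < orderOf σ := orderOf_pos σ
  have h3 : f / orderOf σ = m := by rw [hm]; exact Nat.mul_div_cancel_left m hpos
  rw [h3]
  have h4 : p ^ f = (p ^ m) ^ orderOf σ := by rw [← pow_mul, mul_comm, ← hm]
  rw [h4] at h2
  exact (Nat.pow_left_injective (n := orderOf σ) (by omega) h2).symm

/-- any field of the right size embeds onto the fixed field. -/
theorem exists_embedding [Fintype F] {p f : ℕ} [hp : Fact p.Prime] (hF : Fintype.card F = p ^ f)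
    (hf : 1 ≤ f) (σ : F ≃+* F) (F₀ : Type*) [Field F₀] [Fintype F₀]
    (hF₀ : Fintype.card F₀ = p ^ (f / orderOf σ)) :
    ∃ ι : F₀ →+* F, ∀ x, σ x = x ↔ ∃ y, ι y = x := by
  have : Fintype (fixK σ) := Fintype.ofFinite _
  have e : F₀ ≃+* fixK σ := FiniteField.ringEquivOfCardEq (by
    rw [hF₀, Fintype.card_eq_nat_card, card_fixK hF hf])
  refine ⟨(fixK σ).subtype.comp (e : F₀ →+* fixK σ), fun x => ?_⟩
  constructor
  · intro h
    exact ⟨e.symm ⟨x, mem_fixK.2 h⟩, by simp⟩
  · rintro ⟨y, rfl⟩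
    exact mem_fixK.1 (e y).2

theorem card_fixU [Fintype F] {p f : ℕ} [hp : Fact p.Prime] (hF : Fintype.card F = p ^ f)
    (hf : 1 ≤ f) (σ : F ≃+* F) : Nat.card (fixU σ) = p ^ (f / orderOf σ) - 1 := by
  rw [← card_fixK hF hf σ, ← Nat.card_units]
  refine Nat.card_congr ?_
  exact
    { toFun := fun u => ⟨⟨u.1.1, mem_fixK.2 (congrArg Units.val u.2)⟩,
        ⟨(u.1⁻¹ : Fˣ).1, mem_fixK.2 (congrArg Units.val ((fixU σ).inv_mem u.2))⟩,
        Subtype.ext (by simp), Subtype.ext (by simp)⟩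
      invFun := fun v => ⟨Units.map (fixK σ).subtype.toMonoidHom v, Units.ext (mem_fixK.1 v.1.2)⟩
      left_inv := fun u => Subtype.ext (Units.ext rfl)
      right_inv := fun v => Units.ext (Subtype.ext rfl) }

end Cfsg.Agent.Lib.Helper43.PA
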