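import Cfsg.Agent.Lib.Helper43.PA.Tv

set_option autoImplicit false

/-!
A set of transvections closed under products has a common centre or a common axis.
-/

namespace Cfsg.Agent.Lib.Helper43.PA

open Matrix

variable {n : ℕ} {F : Type*} [Field F]

/-- proportional vectors. -/
def Par (a b : Fin n → F) : Prop := ∀ i k, a i * b k = a k * b i

lemma Par.symm {a b : Fin n → F} (h : Par a b) : Par b a := fun i k => by
  have := h k i
  linear_combination this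

lemma Par.exists_smul {a b : Fin n → F} (h : Par a b) (ha : a ≠ 0) : ∃ c : F, b = c • a := by
  obtain ⟨i, hi⟩ := Function.ne_iff.mp ha
  refine ⟨b i / a i, funext fun k => ?_⟩
  have := h i k
  simp only [Pi.zero_apply] at hi
  simp only [Pi.smul_apply, smul_eq_mul]
  field_simp
  linear_combination this

lemma par_smul (a : Fin n → F) (c : F) : Par a (c • a) := fun i k => by
  simp only [Pi.smul_apply, smul_eq_mul]; ring

lemma Par.trans {a b c : Fin n → F} (hb : b ≠ 0) (h1 : Par a b) (h2 : Par b c) : Par a c := by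
  obtain ⟨x, rfl⟩ := h1.symm.exists_smul hb
  obtain ⟨y, rfl⟩ := h2.exists_smul hb
  intro i k
  simp only [Pi.smul_apply, smul_eq_mul]; ring

lemma lemK {a b c φ ψ χ : Fin n → F}
    (h : (1 + vecMulVec a φ) * (1 + vecMulVec b ψ) = 1 + vecMulVec c χ) : Par a b ∨ Par φ ψ := by
  have h' : vecMulVec a φ + vecMulVec b ψ + (φ ⬝ᵥ b) • vecMulVec a ψ = vecMulVec c χ := by
    have : (1 + vecMulVec a φ) * (1 + vecMulVec b ψ) =
        1 + (vecMulVec a φ + vecMulVec b ψ + (φ ⬝ᵥ b) • vecMulVec a ψ) := by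
      simp only [add_mul, mul_add, Matrix.one_mul, Matrix.mul_one, vecMulVec_mul_vecMulVec,
        vecMulVec_smul]
      abel
    rw [this] at h
    exact add_left_cancel h
  have e : ∀ i j, a i * φ j + b i * ψ j + (φ ⬝ᵥ b) * (a i * ψ j) = c i * χ j := fun i j => by
    have := congrFun (congrFun h' i) j
    simpa [vecMulVec_apply] using this
  by_contra hcon
  rw [not_or] at hcon
  obtain ⟨h1, h2⟩ := hcon
  simp only [Par, not_forall] at h1 h2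
  obtain ⟨i, k, hik⟩ := h1
  obtain ⟨j, l, hjl⟩ := h2
  have key : (a i * b k - a k * b i) * (φ j * ψ l - φ l * ψ j) = 0 := by
    linear_combination (e i j) * (a k * φ l + b k * ψ l + (φ ⬝ᵥ b) * (a k * ψ l)) +
      (c i * χ j) * (e k l) - (e i l) * (a k * φ j + b k * ψ j + (φ ⬝ᵥ b) * (a k * ψ j)) -
      (c i * χ l) * (e k j)
  rcases mul_eq_zero.mp key with h | h
  · exact hik (sub_eq_zero.mp h)
  · exact hjl (sub_eq_zero.mp h)

lemma lemK_tv {a b φ ψ : Fin n → F} (h1 : φ ⬝ᵥ a = 0) (h2 : ψ ⬝ᵥ b = 0)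
    (h : IsTv (tv a φ * tv b ψ)) : Par a b ∨ Par φ ψ := by
  obtain ⟨c, χ, -, hc⟩ := h
  rw [Matrix.SpecialLinearGroup.coe_mul, tv_coe h1, tv_coe h2] at hc
  exact lemK hc

lemma IsTv.cases {s : SpecialLinearGroup (Fin n) F} (h : IsTv s) :
    s = 1 ∨ ∃ a φ : Fin n → F, a ≠ 0 ∧ φ ≠ 0 ∧ φ ⬝ᵥ a = 0 ∧ s = tv a φ := by
  obtain ⟨a, φ, h0, rfl⟩ := h.exists_tv
  by_cases ha : a = 0
  · left; rw [ha, tv_zero_left]
  by_cases hφ : φ = 0
  · left; rw [hφ, tv_zero_right]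
  exact Or.inr ⟨a, φ, ha, hφ, h0, rfl⟩

lemma hasCentre_one (a : Fin n → F) : HasCentre a (1 : SpecialLinearGroup (Fin n) F) :=
  ⟨0, by simp, by simp⟩

lemma hasAxis_one (φ : Fin n → F) : HasAxis φ (1 : SpecialLinearGroup (Fin n) F) :=
  ⟨0, by simp, by simp⟩

lemma hasCentre_tv_smul {a φ : Fin n → F} {c : F} (h : φ ⬝ᵥ (c • a) = 0) :
    HasCentre a (tv (c • a) φ) := by
  rw [tv_smul_comm]
  exact hasCentre_tv (by rw [smul_dotProduct, ← dotProduct_smul]; exact h)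

lemma hasAxis_tv_smul {a φ : Fin n → F} {c : F} (h : (c • φ) ⬝ᵥ a = 0) :
    HasAxis φ (tv a (c • φ)) := by
  rw [← tv_smul_comm]
  exact hasAxis_tv (by rw [dotProduct_smul, ← smul_dotProduct]; exact h)

theorem lemM (S : Set (SpecialLinearGroup (Fin n) F)) (h1 : ∀ s ∈ S, IsTv s)
    (h2 : ∀ s ∈ S, ∀ t ∈ S, IsTv (s * t)) :
    (∃ a, ∀ s ∈ S, HasCentre a s) ∨ (∃ φ, ∀ s ∈ S, HasAxis φ s) := by
  by_cases hS : ∃ a₁ φ₁ a₂ φ₂ : Fin n → F, a₁ ≠ 0 ∧ φ₁ ≠ 0 ∧ φ₁ ⬝ᵥ a₁ = 0 ∧ tv a₁ φ₁ ∈ S ∧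
      a₂ ≠ 0 ∧ φ₂ ≠ 0 ∧ φ₂ ⬝ᵥ a₂ = 0 ∧ tv a₂ φ₂ ∈ S ∧ ¬ Par a₁ a₂
  · obtain ⟨a₁, φ₁, a₂, φ₂, ha₁, hφ₁, h01, hS1, ha₂, hφ₂, h02, hS2, hnp⟩ := hS
    have hp12 : Par φ₁ φ₂ := (lemK_tv h01 h02 (h2 _ hS1 _ hS2)).resolve_left hnp
    right
    refine ⟨φ₁, fun s hs => ?_⟩
    rcases (h1 s hs).cases with rfl | ⟨a, φ, ha, hφ, h0, rfl⟩
    · exact hasAxis_one _
    have hpar : Par φ φ₁ := by
      by_cases hp1 : Par a a₁
      · have hp2 : ¬ Par a a₂ := fun hp2 => hnp (hp1.symm.trans ha hp2)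
        have := (lemK_tv h0 h02 (h2 _ hs _ hS2)).resolve_left hp2
        exact this.trans hφ₂ hp12.symm
      · exact (lemK_tv h0 h01 (h2 _ hs _ hS1)).resolve_left hp1
    obtain ⟨c, rfl⟩ := hpar.symm.exists_smul hφ₁
    exact hasAxis_tv_smul h0
  · left
    by_cases hS1 : ∃ a₁ φ₁ : Fin n → F, a₁ ≠ 0 ∧ φ₁ ≠ 0 ∧ φ₁ ⬝ᵥ a₁ = 0 ∧ tv a₁ φ₁ ∈ S
    · obtain ⟨a₁, φ₁, ha₁, hφ₁, h01, hS1⟩ := hS1
      refine ⟨a₁, fun s hs => ?_⟩
      rcases (h1 s hs).cases with rfl | ⟨a, φ, ha, hφ, h0, rfl⟩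
      · exact hasCentre_one _
      have hpar : Par a₁ a := by
        by_contra hnp
        exact hS ⟨a₁, φ₁, a, φ, ha₁, hφ₁, h01, hS1, ha, hφ, h0, hs, hnp⟩
      obtain ⟨c, rfl⟩ := hpar.exists_smul ha₁
      exact hasCentre_tv_smul h0
    · refine ⟨0, fun s hs => ?_⟩
      rcases (h1 s hs).cases with rfl | ⟨a, φ, ha, hφ, h0, rfl⟩
      · exact hasCentre_one _
      · exact absurd ⟨a, φ, ha, hφ, h0, hs⟩ hS1

end Cfsg.Agent.Lib.Helper43.PA
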