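import Mathlib

set_option autoImplicit false

/-!
A family of additive maps `σ i j` with `σ i k (s t) = σ i j s * σ j k t` comes from one ring
endomorphism and a diagonal rescaling.
-/

namespace Cfsg.Agent.Lib.Helper43.PA

variable {n : ℕ} {F : Type*} [Field F]

lemma exists_third (hn : 3 ≤ n) (i j : Fin n) : ∃ k : Fin n, k ≠ i ∧ k ≠ j := by
  by_cases h0 : (⟨0, by omega⟩ : Fin n) ≠ i ∧ (⟨0, by omega⟩ : Fin n) ≠ j
  · exact ⟨_, h0⟩
  by_cases h1 : (⟨1, by omega⟩ : Fin n) ≠ i ∧ (⟨1, by omega⟩ : Fin n) ≠ j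
  · exact ⟨_, h1⟩
  refine ⟨⟨2, by omega⟩, ?_, ?_⟩
  all_goals
    simp only [ne_eq, Fin.ext_iff, not_and_or, not_not] at h0 h1 ⊢
    omega

theorem lemS (hn : 3 ≤ n) (σ : Fin n → Fin n → F → F)
    (hadd : ∀ i j, i ≠ j → ∀ s t, σ i j (s + t) = σ i j s + σ i j t)
    (hmul : ∀ i j k, i ≠ j → j ≠ k → i ≠ k → ∀ s t, σ i k (s * t) = σ i j s * σ j k t)
    (h1 : ∀ i j, i ≠ j → σ i j 1 ≠ 0) :
    ∃ (δ : Fin n → F) (τ : F →+* F), (∀ i, δ i ≠ 0) ∧
      ∀ i j, i ≠ j → ∀ t, σ i j t = δ i / δ j * τ t := by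
  have m1 : ∀ i j k, i ≠ j → j ≠ k → i ≠ k → ∀ t, σ i k t = σ i j 1 * σ j k t := by
    intro i j k hij hjk hik t
    have := hmul i j k hij hjk hik 1 t
    rwa [one_mul] at this
  have m2 : ∀ i j k, i ≠ j → j ≠ k → i ≠ k → ∀ s, σ i k s = σ i j s * σ j k 1 := by
    intro i j k hij hjk hik s
    have := hmul i j k hij hjk hik s 1
    rwa [mul_one] at this
  set ρ : Fin n → Fin n → F → F := fun i j t => σ i j t / σ i j 1 with hρ
  have rA' : ∀ i j k, i ≠ j → j ≠ k → i ≠ k → ∀ t, ρ i k t = ρ i j t := by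
    intro i j k hij hjk hik t
    simp only [hρ]
    rw [m2 i j k hij hjk hik t, m2 i j k hij hjk hik 1]
    have := h1 i j hij
    have := h1 j k hjk
    field_simp
  have rB' : ∀ i j k, i ≠ j → j ≠ k → i ≠ k → ∀ t, ρ i k t = ρ j k t := by
    intro i j k hij hjk hik t
    simp only [hρ]
    rw [m1 i j k hij hjk hik t, m1 i j k hij hjk hik 1]
    have := h1 i j hij
    have := h1 j k hjk
    field_simp
  have rA : ∀ i j l, i ≠ j → i ≠ l → ∀ t, ρ i j t = ρ i l t := by
    intro i j l hij hil t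
    by_cases hjl : j = l
    · rw [hjl]
    · exact (rA' i j l hij hjl hil t).symm
  have rB : ∀ i k l, i ≠ l → k ≠ l → ∀ t, ρ i l t = ρ k l t := by
    intro i k l hil hkl t
    by_cases hik : i = k
    · rw [hik]
    · exact rB' i k l hik hkl hil t
  have rall : ∀ i j k l, i ≠ j → k ≠ l → ∀ t, ρ i j t = ρ k l t := by
    intro i j k l hij hkl t
    obtain ⟨m, hmi, hmk⟩ := exists_third hn i k
    rw [rA i j m hij hmi.symm, rB i k m hmi.symm hmk.symm, rA k m l hmk.symm hkl]
  let c0 : Fin n := ⟨0, by omega⟩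
  let c1 : Fin n := ⟨1, by omega⟩
  let c2 : Fin n := ⟨2, by omega⟩
  have h01 : c0 ≠ c1 := by simp [c0, c1, Fin.ext_iff]
  have h12 : c1 ≠ c2 := by simp [c1, c2, Fin.ext_iff]
  have h02 : c0 ≠ c2 := by simp [c0, c2, Fin.ext_iff]
  have hz : ∀ i j, i ≠ j → σ i j 0 = 0 := by
    intro i j hij
    have := hadd i j hij 0 0
    rw [add_zero] at this
    exact left_eq_add.mp this
  let τ : F →+* F :=
    { toFun := ρ c0 c1
      map_one' := by simp only [hρ]; exact div_self (h1 _ _ h01)
      map_mul' := by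
        intro s t
        rw [rall c0 c1 c0 c2 h01 h02 (s * t), rall c0 c1 c1 c2 h01 h12 t]
        simp only [hρ]
        rw [hmul c0 c1 c2 h01 h12 h02 s t, m1 c0 c1 c2 h01 h12 h02 1]
        have := h1 _ _ h01
        have := h1 _ _ h12
        field_simp
      map_zero' := by simp only [hρ]; rw [hz _ _ h01, zero_div]
      map_add' := by
        intro s t
        simp only [hρ]
        rw [hadd _ _ h01, add_div] }
  have hτ : ∀ t, τ t = ρ c0 c1 t := fun t => rfl
  refine ⟨fun i => if i = c0 then 1 else σ i c0 1, τ, ?_, ?_⟩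
  · intro i
    by_cases hi : i = c0
    · simp [hi]
    · simp only [hi, if_false]; exact h1 _ _ hi
  · intro i j hij t
    have hd : σ i j 1 = (if i = c0 then 1 else σ i c0 1) / (if j = c0 then 1 else σ j c0 1) := by
      by_cases hj : j = c0
      · subst hj
        simp [hij]
      by_cases hi : i = c0
      · subst hi
        simp only [if_true, hj, if_false]
        obtain ⟨k, hk0, hkj⟩ := exists_third hn c0 j
        have e1 := m1 c0 j k hij hkj.symm hk0.symm 1
        have e2 := m1 j c0 k hj hk0.symm hkj.symm 1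
        have := h1 _ _ hk0.symm
        have := h1 _ _ hj
        rw [e2] at e1
        field_simp
        have e3 : σ c0 k 1 * (σ c0 j 1 * σ j c0 1 - 1) = 0 := by linear_combination -e1
        rcases mul_eq_zero.mp e3 with h | h
        · exact absurd h (h1 _ _ hk0.symm)
        · linear_combination h
      · simp only [hi, hj, if_false]
        have := h1 _ _ hj
        rw [m1 i j c0 hij hj hi 1]
        field_simp
    rw [← hd, hτ, ← rall i j c0 c1 hij h01 t]
    simp only [hρ]
    have := h1 _ _ hij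
    field_simp

end Cfsg.Agent.Lib.Helper43.PA
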