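import Cfsg.Agent.Lib.Helper43.PA.Syl
import Cfsg.Agent.Lib.Helper43.PA.LemM
set_option autoImplicit false
namespace Cfsg.Agent.Lib.Helper43.PA
open Matrix Pointwise
variable {n : ℕ} {F : Type*} [Field F]

lemma last_ne_first (hn : 2 ≤ n) : (⟨n - 1, by omega⟩ : Fin n) ≠ ⟨0, by omega⟩ := by
  intro h; have := congrArg Fin.val h; simp at this; omega

lemma conjSL_toGL (g s : SpecialLinearGroup (Fin n) F) :
    conjSL (SpecialLinearGroup.toGL g) s = g * s * g⁻¹ := by
  apply SL_ext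
  rw [conjSL_coe, ← map_inv]
  rfl

lemma IsTv.conj (g : SpecialLinearGroup (Fin n) F) {s : SpecialLinearGroup (Fin n) F} (h : IsTv s) :
    IsTv (g * s * g⁻¹) := by
  rw [← conjSL_toGL]; exact h.conjSL _

theorem star0 [Fintype F] {p f : ℕ} [hp : Fact p.Prime] (hF : Fintype.card F = p ^ f)
    (hf : 1 ≤ f) (hn : 2 ≤ n) (β : MulAut (ProjectiveSpecialLinearGroup (Fin n) F)) (t : F) :
    ∃ (g : SpecialLinearGroup (Fin n) F) (t' : F),
      β (QuotientGroup.mk (SpecialLinearGroup.transvection (last_ne_first hn) t)) =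
        QuotientGroup.mk (g * SpecialLinearGroup.transvection (last_ne_first hn) t' * g⁻¹) := by
  obtain ⟨g, h1, h2⟩ := exists_conj_LT hF hf (by omega) β
  have hlt : (⟨0, by omega⟩ : Fin n) < ⟨n - 1, by omega⟩ := by
    show 0 < n - 1
    omega
  obtain ⟨s', hs', hs'eq⟩ := h1 _ (transvection_mem_LT hlt t)
  have hc : ∀ u ∈ LT n F, (QuotientGroup.mk s' : ProjectiveSpecialLinearGroup (Fin n) F) *
      QuotientGroup.mk u = QuotientGroup.mk u * QuotientGroup.mk s' := by
    intro u' hu'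
    obtain ⟨u, hu, hueq⟩ := h2 u' hu'
    have h3 := congrArg (fun x => β (QuotientGroup.mk x)) (transvection_central_LT hn t hu)
    simp only [QuotientGroup.mk_mul, map_mul] at h3
    rw [hs'eq, hueq] at h3
    simp only [QuotientGroup.mk_mul, QuotientGroup.mk_inv] at h3
    have h4 := congrArg (fun x => (QuotientGroup.mk g : ProjectiveSpecialLinearGroup (Fin n) F)⁻¹ * x *
      QuotientGroup.mk g) h3
    simpa [mul_assoc] using h4
  obtain ⟨t', rfl⟩ := central_LT hn hs' hc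
  exact ⟨g, t', hs'eq⟩

/-- every nontrivial transvection is a `GL_n`-conjugate of the elementary one. -/
lemma exists_conjSL_eq_tv (hn : 2 ≤ n) {a φ : Fin n → F} (ha : a ≠ 0) (hφ : φ ≠ 0) (h0 : φ ⬝ᵥ a = 0) :
    ∃ k : GL (Fin n) F, conjSL k (SpecialLinearGroup.transvection (last_ne_first hn) 1) = tv a φ := by
  let e₁ : Fin n → F := Pi.single ⟨n - 1, by omega⟩ 1
  let φ₀ : Module.Dual F (Fin n → F) := LinearMap.proj ⟨0, by omega⟩
  let ψ : Module.Dual F (Fin n → F) := dotProductBilin F F φ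
  have hψ : ∀ x, ψ x = φ ⬝ᵥ x := fun x => rfl
  obtain ⟨g, hg1, hg2⟩ := exists_equiv_of_flags e₁ a φ₀ ψ
    (by
      intro h
      have := congrFun h ⟨n - 1, by omega⟩
      simp [e₁] at this)
    ha
    (by
      intro h
      have := LinearMap.congr_fun h (Pi.single ⟨0, by omega⟩ 1)
      simp [φ₀] at this)
    (by
      intro h
      apply hφ
      funext i
      have := LinearMap.congr_fun h (Pi.single i 1)
      simpa [hψ] using this)
    (by simp [φ₀, e₁, last_ne_first hn, (last_ne_first hn).symm])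
    (by rw [hψ, h0])
  let k : GL (Fin n) F := glEquiv.symm g
  refine ⟨k, ?_⟩
  rw [transvection_eq_tv, one_smul, conjSL_tv _ (single_dotProduct_single (last_ne_first hn))]
  have h1 : k.1 *ᵥ (Pi.single ⟨n - 1, by omega⟩ 1) = a := by
    rw [glEquiv_symm_mulVec]; exact hg1
  have h2 : φ ᵥ* k.1 = Pi.single ⟨0, by omega⟩ 1 := by
    funext i
    have h3 := hg2 (Pi.single i 1)
    rw [hψ, ← glEquiv_symm_mulVec, dotProduct_mulVec] at h3
    simp only [dotProduct_single, mul_one] at h3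
    rw [h3]
    simp [φ₀, Pi.single_apply, eq_comm]
  rw [h1, ← h2, vecMul_vecMul, ← Units.val_mul, mul_inv_cancel]
  simp

theorem star [Fintype F] {p f : ℕ} [hp : Fact p.Prime] (hF : Fintype.card F = p ^ f)
    (hf : 1 ≤ f) (hn : 2 ≤ n) (β : MulAut (ProjectiveSpecialLinearGroup (Fin n) F))
    {s : SpecialLinearGroup (Fin n) F} (hs : IsTv s) :
    ∃ s', IsTv s' ∧ β (QuotientGroup.mk s) = QuotientGroup.mk s' := by
  rcases hs.cases with rfl | ⟨a, φ, ha, hφ, h0, rfl⟩
  · exact ⟨1, isTv_one, by rw [QuotientGroup.mk_one, map_one]⟩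
  obtain ⟨k, hk⟩ := exists_conjSL_eq_tv hn ha hφ h0
  obtain ⟨g, t', h⟩ := star0 hF hf hn (β * cG k) 1
  refine ⟨g * SpecialLinearGroup.transvection (last_ne_first hn) t' * g⁻¹, ?_, ?_⟩
  · apply IsTv.conj
    rw [transvection_eq_tv]
    exact isTv_tv _ _
  · rw [← hk, ← cG_mk]
    exact h

end Cfsg.Agent.Lib.Helper43.PA
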