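import Cfsg.Agent.Lib.Helper43.PA.Tv
import Cfsg.Agent.Lib.Helper5.LinearCard
import Cfsg.Agent.Lib.Helper43.Transv
import Cfsg.Agent.Lib.Helper43.GLEquiv

set_option autoImplicit false

/-!
The lower unitriangular subgroup of `SL_n(F)`, `F` finite: it is a Sylow `p`-subgroup.
-/

namespace Cfsg.Agent.Lib.Helper43.PA

open Matrix Pointwise

variable {n : ℕ} {F : Type*} [Field F]

/-- lower unitriangular matrices, as a submonoid. -/
def LTm (n : ℕ) (F : Type*) [Field F] : Submonoid (SpecialLinearGroup (Fin n) F) where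
  carrier := {s | (∀ i j, i < j → s.1 i j = 0) ∧ ∀ i, s.1 i i = 1}
  one_mem' := by
    refine ⟨fun i j hij => ?_, fun i => ?_⟩
    · show (1 : Matrix (Fin n) (Fin n) F) i j = 0
      exact one_apply_ne hij.ne
    · show (1 : Matrix (Fin n) (Fin n) F) i i = 1
      exact one_apply_eq i
  mul_mem' := by
    rintro s t ⟨hs1, hs2⟩ ⟨ht1, ht2⟩
    refine ⟨fun i j hij => ?_, fun i => ?_⟩
    · show (s.1 * t.1) i j = 0
      rw [mul_apply]
      apply Finset.sum_eq_zero
      intro k _
      by_cases hk : i < k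
      · rw [hs1 i k hk, zero_mul]
      · rw [ht1 k j (lt_of_le_of_lt (not_lt.mp hk) hij), mul_zero]
    · show (s.1 * t.1) i i = 1
      rw [mul_apply, Finset.sum_eq_single i, hs2, ht2, mul_one]
      · intro k _ hk
        rcases lt_or_gt_of_ne hk with h | h
        · rw [ht1 k i h, mul_zero]
        · rw [hs1 i k h, zero_mul]
      · intro h; exact absurd (Finset.mem_univ i) h

/-- lower unitriangular matrices over a finite field, as a subgroup. -/
def LT (n : ℕ) (F : Type*) [Field F] [Finite F] : Subgroup (SpecialLinearGroup (Fin n) F) :=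
  { LTm n F with
    inv_mem' := by
      intro s hs
      have : Finite (SpecialLinearGroup (Fin n) F) := Subtype.finite
      have h : s⁻¹ = s ^ (orderOf s - 1) := by
        apply inv_eq_of_mul_eq_one_left
        rw [pow_sub_one_mul (orderOf_pos s).ne', pow_orderOf_eq_one]
      rw [h]
      exact (LTm n F).pow_mem hs _ }

lemma mem_LT [Finite F] {s : SpecialLinearGroup (Fin n) F} :
    s ∈ LT n F ↔ (∀ i j, i < j → s.1 i j = 0) ∧ ∀ i, s.1 i i = 1 := Iff.rfl

/-- the matrix with given strictly lower triangular part. -/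
def ltMat (c : ∀ i : Fin n, Fin i → F) : Matrix (Fin n) (Fin n) F :=
  fun i j => if h : j.1 < i.1 then c i ⟨j.1, h⟩ else if i = j then 1 else 0

lemma ltMat_det (c : ∀ i : Fin n, Fin i → F) : (ltMat c).det = 1 := by
  rw [det_of_isLowerTriangular]
  · apply Finset.prod_eq_one
    intro i _
    simp [ltMat]
  · intro i j hij
    have hij' : i < j := hij
    have h1 : ¬ j.1 < i.1 := by
      have : i.1 < j.1 := hij'
      omega
    simp [ltMat, h1, hij'.ne]

/-- `LT ≃ ∏ i, F^i`. -/
def ltEquiv [Finite F] : LT n F ≃ (∀ i : Fin n, Fin i → F) where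
  toFun s := fun i j => s.1.1 i ⟨j.1, j.2.trans i.2⟩
  invFun c := ⟨mkSL (ltMat c) (ltMat_det c), by
    rw [mem_LT]
    refine ⟨fun i j hij => ?_, fun i => ?_⟩
    · have hij' : i.1 < j.1 := hij
      have h1 : ¬ j.1 < i.1 := by omega
      simp [mkSL_coe, ltMat, h1, hij.ne]
    · simp [mkSL_coe, ltMat]⟩
  left_inv s := by
    apply Subtype.ext
    apply SL_ext
    obtain ⟨h1, h2⟩ := mem_LT.mp s.2
    ext i j
    change ltMat (fun (i : Fin n) (j : Fin i) => s.1.1 i ⟨j.1, j.2.trans i.2⟩) i j = s.1.1 i j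
    unfold ltMat
    split_ifs with h h'
    · rfl
    · rw [← h', h2]
    · have : i < j := by
        rcases lt_trichotomy i j with h3 | h3 | h3
        · exact h3
        · exact absurd h3 h'
        · exact absurd h3 h
      rw [h1 i j this]
  right_inv c := by
    funext i j
    show ltMat c i ⟨j.1, _⟩ = c i j
    unfold ltMat
    rw [dif_pos j.2]

lemma card_LT [Fintype F] : Nat.card (LT n F) = ∏ i : Fin n, Fintype.card F ^ (i : ℕ) := by
  classical
  rw [Nat.card_congr ltEquiv, Nat.card_eq_fintype_card, Fintype.card_pi]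
  simp

lemma card_LT_pow [Fintype F] {p f : ℕ} (hF : Fintype.card F = p ^ f) :
    Nat.card (LT n F) = p ^ (f * ∑ i : Fin n, (i : ℕ)) := by
  rw [card_LT, hF, Finset.prod_pow_eq_pow_sum, ← pow_mul]

lemma not_dvd_index_LT [Fintype F] {p f : ℕ} [hp : Fact p.Prime] (hF : Fintype.card F = p ^ f)
    (hf : 1 ≤ f) (hn : 1 ≤ n) : ¬ p ∣ (LT n F).index := by
  have : Nonempty (Fin n) := ⟨⟨0, hn⟩⟩
  have h1 := Cfsg.Agent.Lib.Helper5.card_GL_eq_card_SL_mul_card_units (n := Fin n) (F := F)
  rw [Matrix.card_GL_field, ← (LT n F).card_mul_index, card_LT] at h1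
  set q := Fintype.card F with hq
  have hq0 : 0 < q := Fintype.card_pos
  have h2 : ∏ i : Fin n, (q ^ n - q ^ (i : ℕ)) =
      (∏ i : Fin n, q ^ (i : ℕ)) * ∏ i : Fin n, (q ^ (n - (i : ℕ)) - 1) := by
    rw [← Finset.prod_mul_distrib]
    apply Finset.prod_congr rfl
    intro i _
    rw [Nat.mul_sub, mul_one, ← pow_add]
    congr 2
    have := i.2
    omega
  rw [h2, mul_assoc] at h1
  have h3 : ∏ i : Fin n, (q ^ (n - (i : ℕ)) - 1) = (LT n F).index * Nat.card Fˣ :=
    Nat.eq_of_mul_eq_mul_left (Finset.prod_pos fun i _ => pow_pos hq0 _) h1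
  intro hdvd
  have h4 : p ∣ ∏ i : Fin n, (q ^ (n - (i : ℕ)) - 1) := by
    rw [h3]; exact Dvd.dvd.mul_right hdvd _
  obtain ⟨i, -, hi⟩ := (Nat.Prime.prime hp.out).exists_mem_finset_dvd h4
  have h5 : p ∣ q ^ (n - (i : ℕ)) := by
    apply dvd_pow _ (by have := i.2; omega)
    rw [hF]
    exact dvd_pow_self p (by omega)
  have h6 : q ^ (n - (i : ℕ)) - 1 + 1 = q ^ (n - (i : ℕ)) :=
    Nat.sub_add_cancel (Nat.one_le_pow _ _ hq0)
  have h7 : p ∣ 1 := by
    rw [← h6] at h5
    exact (Nat.dvd_add_right hi).mp h5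
  exact hp.out.one_lt.ne' (Nat.dvd_one.mp h7)



theorem exists_conj_LT [Fintype F] {p f : ℕ} [hp : Fact p.Prime] (hF : Fintype.card F = p ^ f)
    (hf : 1 ≤ f) (hn : 1 ≤ n) (β : MulAut (ProjectiveSpecialLinearGroup (Fin n) F)) :
    ∃ g : SpecialLinearGroup (Fin n) F,
      (∀ s ∈ LT n F, ∃ s' ∈ LT n F, β (QuotientGroup.mk s) = QuotientGroup.mk (g * s' * g⁻¹)) ∧
      (∀ s' ∈ LT n F, ∃ s ∈ LT n F, β (QuotientGroup.mk s) = QuotientGroup.mk (g * s' * g⁻¹)) := by
  have : Finite (SpecialLinearGroup (Fin n) F) := Subtype.finite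
  set Pb : Subgroup (ProjectiveSpecialLinearGroup (Fin n) F) :=
    (LT n F).map (QuotientGroup.mk' _) with hPb
  have hP : IsPGroup p Pb := (IsPGroup.of_card (card_LT_pow hF)).map _
  have hidx : ¬ p ∣ Pb.index := fun h => not_dvd_index_LT hF hf hn
    (h.trans (Subgroup.index_map_dvd _ (QuotientGroup.mk'_surjective _)))
  let P : Sylow p (ProjectiveSpecialLinearGroup (Fin n) F) := hP.toSylow hidx
  obtain ⟨gb, hgb⟩ := MulAction.exists_smul_eq (ProjectiveSpecialLinearGroup (Fin n) F) P (β • P)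
  obtain ⟨g, rfl⟩ := QuotientGroup.mk_surjective gb
  have hsub : (MulAut.conj (QuotientGroup.mk g : ProjectiveSpecialLinearGroup (Fin n) F)) • Pb = β • Pb := by
    have := congrArg Sylow.toSubgroup hgb
    exact this
  refine ⟨g, fun s hs => ?_, fun s' hs' => ?_⟩
  · have h1 : β (QuotientGroup.mk s) ∈ β • Pb :=
      Subgroup.smul_mem_pointwise_smul _ β Pb (Subgroup.mem_map_of_mem _ hs)
    rw [← hsub] at h1
    obtain ⟨y, hy, hy2⟩ := Subgroup.mem_smul_pointwise_iff_exists _ _ _ |>.mp h1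
    obtain ⟨s', hs', rfl⟩ := Subgroup.mem_map.mp hy
    exact ⟨s', hs', hy2.symm⟩
  · have h1 : (QuotientGroup.mk (g * s' * g⁻¹) : ProjectiveSpecialLinearGroup (Fin n) F) ∈
        (MulAut.conj (QuotientGroup.mk g : ProjectiveSpecialLinearGroup (Fin n) F)) • Pb :=
      Subgroup.smul_mem_pointwise_smul _ _ Pb (Subgroup.mem_map_of_mem _ hs')
    rw [hsub] at h1
    obtain ⟨y, hy, hy2⟩ := Subgroup.mem_smul_pointwise_iff_exists _ _ _ |>.mp h1
    obtain ⟨s, hs, rfl⟩ := Subgroup.mem_map.mp hy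
    exact ⟨s, hs, hy2⟩



lemma transvection_mem_LT [Finite F] {i j : Fin n} (hij : j < i) (t : F) :
    SpecialLinearGroup.transvection hij.ne' t ∈ LT n F := by
  rw [mem_LT]
  refine ⟨fun k l hkl => ?_, fun k => ?_⟩
  · rw [Matrix.SpecialLinearGroup.transvection_coe, Matrix.add_apply, one_apply_ne hkl.ne, zero_add,
      single_apply_of_ne]
    rintro ⟨rfl, rfl⟩
    exact absurd hij (not_lt.mpr hkl.le)
  · rw [Matrix.SpecialLinearGroup.transvection_coe, Matrix.add_apply, one_apply_eq, single_apply_of_ne,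
      add_zero]
    rintro ⟨rfl, h⟩
    exact hij.ne h

lemma eq_of_mk_eq_LT [Finite F] (hn : 1 ≤ n) {s t : SpecialLinearGroup (Fin n) F} (hs : s ∈ LT n F)
    (ht : t ∈ LT n F)
    (h : (QuotientGroup.mk s : ProjectiveSpecialLinearGroup (Fin n) F) = QuotientGroup.mk t) :
    s = t := by
  obtain ⟨r, hr⟩ := exists_smul_of_mk_eq h
  have h1 := congrFun (congrFun hr ⟨0, hn⟩) ⟨0, hn⟩
  rw [Matrix.smul_apply, (mem_LT.mp hs).2, (mem_LT.mp ht).2, smul_eq_mul, mul_one] at h1
  apply SL_ext
  rw [hr, ← h1, one_smul]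

/-- the centre of the image of `LT` in `PSL_n`, one inclusion. -/
lemma central_LT [Finite F] (hn : 2 ≤ n) {s : SpecialLinearGroup (Fin n) F} (hs : s ∈ LT n F)
    (hc : ∀ u ∈ LT n F, (QuotientGroup.mk s : ProjectiveSpecialLinearGroup (Fin n) F) *
      QuotientGroup.mk u = QuotientGroup.mk u * QuotientGroup.mk s) :
    ∃ t : F, s = SpecialLinearGroup.transvection
      (show (⟨n - 1, by omega⟩ : Fin n) ≠ ⟨0, by omega⟩ by
        intro h; have := congrArg Fin.val h; simp at this; omega) t := by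
  have hcomm : ∀ u ∈ LT n F, s * u = u * s := fun u hu =>
    eq_of_mk_eq_LT (by omega) ((LT n F).mul_mem hs hu) ((LT n F).mul_mem hu hs) (hc u hu)
  have hE : ∀ i j : Fin n, j < i → s.1 * single i j 1 = single i j 1 * s.1 := by
    intro i j hij
    have h1 := congrArg Subtype.val (hcomm _ (transvection_mem_LT hij (1 : F)))
    change s.1 * (SpecialLinearGroup.transvection hij.ne' (1 : F)).1 =
      (SpecialLinearGroup.transvection hij.ne' (1 : F)).1 * s.1 at h1
    rw [Matrix.SpecialLinearGroup.transvection_coe, mul_add, add_mul, Matrix.mul_one,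
      Matrix.one_mul] at h1
    exact add_left_cancel h1
  obtain ⟨h1, h2⟩ := mem_LT.mp hs
  have hz : ∀ k l : Fin n, k ≠ l → ¬ (k = ⟨n - 1, by omega⟩ ∧ l = ⟨0, by omega⟩) → s.1 k l = 0 := by
    intro k l hkl hne
    rcases lt_or_gt_of_ne hkl with hlt | hlt
    · exact h1 k l hlt
    by_cases hl : l = ⟨0, by omega⟩
    · have hk : k ≠ ⟨n - 1, by omega⟩ := fun h => hne ⟨h, hl⟩
      have hk' : k < ⟨n - 1, by omega⟩ := by
        have h3 : k.1 ≠ n - 1 := fun h => hk (Fin.ext h)
        have := k.2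
        show k.1 < n - 1
        omega
      have := congrFun (congrFun (hE _ _ hk') ⟨n - 1, by omega⟩) l
      rw [mul_single_apply_of_ne _ _ _ _ _ hkl.symm, single_mul_apply_same, one_mul] at this
      exact this.symm
    · have hl' : (⟨0, by omega⟩ : Fin n) < l := by
        have h3 : l.1 ≠ 0 := fun h => hl (Fin.ext h)
        show 0 < l.1
        omega
      have := congrFun (congrFun (hE _ _ hl') k) ⟨0, by omega⟩
      rw [mul_single_apply_same, mul_one, single_mul_apply_of_ne _ _ _ _ _ hkl] at this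
      exact this
  refine ⟨s.1 ⟨n - 1, by omega⟩ ⟨0, by omega⟩, ?_⟩
  apply SL_ext
  rw [Matrix.SpecialLinearGroup.transvection_coe]
  ext k l
  rw [Matrix.add_apply]
  by_cases hkl : k = l
  · subst hkl
    rw [h2, one_apply_eq, single_apply_of_ne, add_zero]
    rintro ⟨rfl, h⟩
    have := congrArg Fin.val h
    simp at this
    omega
  · rw [one_apply_ne hkl, zero_add]
    by_cases hne : k = ⟨n - 1, by omega⟩ ∧ l = ⟨0, by omega⟩
    · obtain ⟨rfl, rfl⟩ := hne
      rw [single_apply_same]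
    · rw [hz k l hkl hne, single_apply_of_ne]
      rintro ⟨rfl, rfl⟩
      exact hne ⟨rfl, rfl⟩

/-- the other inclusion. -/
lemma transvection_central_LT [Finite F] (hn : 2 ≤ n) (t : F) {u : SpecialLinearGroup (Fin n) F}
    (hu : u ∈ LT n F) :
    SpecialLinearGroup.transvection
      (show (⟨n - 1, by omega⟩ : Fin n) ≠ ⟨0, by omega⟩ by
        intro h; have := congrArg Fin.val h; simp at this; omega) t * u =
    u * SpecialLinearGroup.transvection
      (show (⟨n - 1, by omega⟩ : Fin n) ≠ ⟨0, by omega⟩ by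
        intro h; have := congrArg Fin.val h; simp at this; omega) t := by
  obtain ⟨h1, h2⟩ := mem_LT.mp hu
  apply SL_ext
  rw [Matrix.SpecialLinearGroup.coe_mul, Matrix.SpecialLinearGroup.coe_mul,
    Matrix.SpecialLinearGroup.transvection_coe, mul_add, add_mul, Matrix.mul_one, Matrix.one_mul]
  congr 1
  ext k l
  by_cases hk : k = ⟨n - 1, by omega⟩
  · subst hk
    rw [single_mul_apply_same]
    by_cases hl : l = ⟨0, by omega⟩
    · subst hl
      rw [mul_single_apply_same, h2, h2, mul_one, one_mul]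
    · rw [mul_single_apply_of_ne _ _ _ _ _ hl, h1, mul_zero]
      have h3 : l.1 ≠ 0 := fun h => hl (Fin.ext h)
      show 0 < l.1
      omega
  · rw [single_mul_apply_of_ne _ _ _ _ _ hk]
    by_cases hl : l = ⟨0, by omega⟩
    · subst hl
      rw [mul_single_apply_same, h1, zero_mul]
      have h3 : k.1 ≠ n - 1 := fun h => hk (Fin.ext h)
      have := k.2
      show k.1 < n - 1
      omega
    · rw [mul_single_apply_of_ne _ _ _ _ _ hl]

end Cfsg.Agent.Lib.Helper43.PA
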