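import Cfsg.Agent.Lib.Helper43.PA.LemM
import Cfsg.Agent.Lib.Helper43.PA.LemS
import Cfsg.Agent.Lib.Helper5.SLGen

set_option autoImplicit false

/-!
Automorphisms of `PSL_n(F)`, `n ≥ 3`, preserving transvections.
-/

namespace Cfsg.Agent.Lib.Helper43.PA

open Matrix

variable {n : ℕ} {F : Type*} [Field F]

/-- `β` maps classes of transvections to classes of transvections. -/
def PresTv (β : MulAut (ProjectiveSpecialLinearGroup (Fin n) F)) : Prop :=
  ∀ s : SpecialLinearGroup (Fin n) F, IsTv s → ∃ s', IsTv s' ∧ β (QuotientGroup.mk s) = QuotientGroup.mk s'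

/-- the images of `S` have a common centre. -/
def CC (β : MulAut (ProjectiveSpecialLinearGroup (Fin n) F)) (S : Set (SpecialLinearGroup (Fin n) F)) :
    Prop :=
  ∃ a, ∀ s ∈ S, ∃ s', HasCentre a s' ∧ β (QuotientGroup.mk s) = QuotientGroup.mk s'

/-- the images of `S` have a common axis. -/
def AA (β : MulAut (ProjectiveSpecialLinearGroup (Fin n) F)) (S : Set (SpecialLinearGroup (Fin n) F)) :
    Prop :=
  ∃ φ, ∀ s ∈ S, ∃ s', HasAxis φ s' ∧ β (QuotientGroup.mk s) = QuotientGroup.mk s'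

lemma hasFix_mul (hn : 3 ≤ n) {s t : SpecialLinearGroup (Fin n) F} (hs : IsTv s) (ht : IsTv t) :
    HasFix (s * t) := by
  obtain ⟨a, φ, -, hs⟩ := hs
  obtain ⟨b, ψ, -, ht⟩ := ht
  obtain ⟨v, hv, h1, h2⟩ := exists_common_kernel hn φ ψ
  refine ⟨v, hv, ?_⟩
  rw [Matrix.SpecialLinearGroup.coe_mul, ← mulVec_mulVec, ht, one_add_vecMulVec_mulVec, h2, zero_smul,
    add_zero, hs, one_add_vecMulVec_mulVec, h1, zero_smul, add_zero]

theorem cc_or_aa (hn : 3 ≤ n) {β : MulAut (ProjectiveSpecialLinearGroup (Fin n) F)} (hβ : PresTv β)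
    (S : Set (SpecialLinearGroup (Fin n) F)) (h1 : ∀ s ∈ S, IsTv s) (h2 : ∀ s ∈ S, ∀ t ∈ S, s * t ∈ S) :
    CC β S ∨ AA β S := by
  have key := lemM {s' | IsTv s' ∧ ∃ s ∈ S, β (QuotientGroup.mk s) = QuotientGroup.mk s'}
    (fun s hs => hs.1) (by
      rintro s' ⟨hs', s, hs, hss'⟩ t' ⟨ht', t, ht, htt'⟩
      obtain ⟨u', hu', hu⟩ := hβ _ (h1 _ (h2 s hs t ht))
      rw [QuotientGroup.mk_mul, map_mul, hss', htt', ← QuotientGroup.mk_mul] at hu
      rw [eq_of_mk_eq (hasFix_mul hn hs' ht') hu' hu]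
      exact hu')
  rcases key with ⟨a, ha⟩ | ⟨φ, hφ⟩
  · left
    refine ⟨a, fun s hs => ?_⟩
    obtain ⟨s', hs', hss'⟩ := hβ s (h1 s hs)
    exact ⟨s', ha s' ⟨hs', s, hs, hss'⟩, hss'⟩
  · right
    refine ⟨φ, fun s hs => ?_⟩
    obtain ⟨s', hs', hss'⟩ := hβ s (h1 s hs)
    exact ⟨s', hφ s' ⟨hs', s, hs, hss'⟩, hss'⟩

lemma HasCentre.mul {a : Fin n → F} {s t : SpecialLinearGroup (Fin n) F} (hs : HasCentre a s)
    (ht : HasCentre a t) : HasCentre a (s * t) := by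
  obtain ⟨φ, h1, rfl⟩ := hs.exists_tv
  obtain ⟨ψ, h2, rfl⟩ := ht.exists_tv
  rw [tv_mul_tv_same_centre h1 h2]
  exact hasCentre_tv (by rw [add_dotProduct, h1, h2, add_zero])

lemma HasAxis.mul {φ : Fin n → F} {s t : SpecialLinearGroup (Fin n) F} (hs : HasAxis φ s)
    (ht : HasAxis φ t) : HasAxis φ (s * t) := by
  obtain ⟨a, h1, rfl⟩ := hs.exists_tv
  obtain ⟨b, h2, rfl⟩ := ht.exists_tv
  rw [tv_mul_tv_same_axis h1 h2]
  exact hasAxis_tv (by rw [dotProduct_add, h1, h2, add_zero])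

lemma HasCentre.commute {a : Fin n → F} {s t : SpecialLinearGroup (Fin n) F} (hs : HasCentre a s)
    (ht : HasCentre a t) : s * t = t * s := by
  obtain ⟨φ, h1, rfl⟩ := hs.exists_tv
  obtain ⟨ψ, h2, rfl⟩ := ht.exists_tv
  rw [tv_mul_tv_same_centre h1 h2, tv_mul_tv_same_centre h2 h1, add_comm]

lemma par_of_tv_eq {a b φ ψ : Fin n → F} (h1 : φ ⬝ᵥ a = 0) (h2 : ψ ⬝ᵥ b = 0) (hφ : φ ≠ 0)
    (h : tv a φ = tv b ψ) : Par a b := by
  have h3 : vecMulVec a φ = vecMulVec b ψ := by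
    have := congrArg Subtype.val h
    rw [tv_coe h1, tv_coe h2] at this
    exact add_left_cancel this
  have e : ∀ i j, a i * φ j = b i * ψ j := fun i j => congrFun (congrFun h3 i) j
  obtain ⟨j, hj⟩ := Function.ne_iff.mp hφ
  intro i k
  have : (a i * b k - a k * b i) * φ j = 0 := by
    linear_combination b k * e i j - b i * e k j
  rcases mul_eq_zero.mp this with h | h
  · exact sub_eq_zero.mp h
  · exact absurd h hj

lemma HasCentre.of_smul {a : Fin n → F} {c : F} {s : SpecialLinearGroup (Fin n) F}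
    (h : HasCentre (c • a) s) : HasCentre a s := by
  obtain ⟨φ, h1, rfl⟩ := h.exists_tv
  exact hasCentre_tv_smul h1

/-- a common centre and a common axis. -/
lemma exists_smul_of_centre_axis {a φ : Fin n → F} {s : SpecialLinearGroup (Fin n) F}
    (h1 : HasCentre a s) (h2 : HasAxis φ s) :
    ∃ c : F, s = tv (c • a) φ ∧ (s ≠ 1 → a ≠ 0 ∧ φ ≠ 0 ∧ φ ⬝ᵥ a = 0 ∧ c ≠ 0) := by
  by_cases hs : s = 1
  · exact ⟨0, by rw [zero_smul, tv_zero_left, hs], fun h => absurd hs h⟩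
  obtain ⟨ψ, h3, rfl⟩ := h1.exists_tv
  obtain ⟨b, h4, h5⟩ := h2.exists_tv
  have h6 := (tv_eq_one_iff h3).not.mp hs
  rw [not_or] at h6
  have h7 := (tv_eq_one_iff h4).not.mp (h5 ▸ hs)
  rw [not_or] at h7
  obtain ⟨c, rfl⟩ := (par_of_tv_eq h3 h4 h6.2 h5).exists_smul h6.1
  have hc : c ≠ 0 := by
    rintro rfl
    exact h7.1 (zero_smul _ _)
  refine ⟨c, h5, fun _ => ⟨h6.1, h7.2, ?_, hc⟩⟩
  rw [dotProduct_smul, smul_eq_mul] at h4
  exact (mul_eq_zero.mp h4).resolve_left hc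

/-- the elementary transvection, total version. -/
noncomputable def X (i j : Fin n) (t : F) : SpecialLinearGroup (Fin n) F :=
  tv (t • Pi.single i 1) (Pi.single j 1)

lemma X_eq {i j : Fin n} (hij : i ≠ j) (t : F) : X i j t = SpecialLinearGroup.transvection hij t :=
  (transvection_eq_tv hij t).symm

lemma X_orth {i j : Fin n} (hij : i ≠ j) (t : F) :
    (Pi.single j 1 : Fin n → F) ⬝ᵥ (t • Pi.single i 1) = 0 := by
  rw [dotProduct_smul, single_dotProduct_single hij, smul_zero]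

lemma X_hasCentre {i j : Fin n} (hij : i ≠ j) (t : F) : HasCentre (Pi.single i 1) (X i j t) :=
  hasCentre_tv_smul (X_orth hij t)

lemma X_hasAxis {i j : Fin n} (hij : i ≠ j) (t : F) : HasAxis (Pi.single j 1) (X i j t) :=
  hasAxis_tv (X_orth hij t)

lemma mk_X_ne_one {i j : Fin n} (hij : i ≠ j) {t : F} (ht : t ≠ 0) :
    (QuotientGroup.mk (X i j t) : ProjectiveSpecialLinearGroup (Fin n) F) ≠ 1 := by
  rw [Ne, QuotientGroup.eq_one_iff, X_eq hij, Matrix.SpecialLinearGroup.transvection_mem_center_iff]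
  exact ht

lemma X_add {i j : Fin n} (hij : i ≠ j) (s t : F) : X i j (s + t) = X i j s * X i j t := by
  rw [X_eq hij, X_eq hij, X_eq hij, Matrix.SpecialLinearGroup.transvection_add]

lemma X_comm_rel {i j k : Fin n} (hij : i ≠ j) (hjk : j ≠ k) (hik : i ≠ k) (s t : F) :
    X i j s * X j k t = X i k (s * t) * X j k t * X i j s := by
  unfold X
  rw [tv_comm_rel (X_orth hij s) (X_orth hjk t) (X_orth hik s)]
  congr 3
  rw [dotProduct_smul, smul_smul]
  simp [mul_comm]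

/-- the two sets attached to a basis vector. -/
def setA (n : ℕ) (F : Type*) [Field F] (i : Fin n) : Set (SpecialLinearGroup (Fin n) F) :=
  {s | HasCentre (Pi.single i 1) s}
def setB (n : ℕ) (F : Type*) [Field F] (j : Fin n) : Set (SpecialLinearGroup (Fin n) F) :=
  {s | HasAxis (Pi.single j 1) s}

theorem not_cc_cc (hn : 3 ≤ n) (β : MulAut (ProjectiveSpecialLinearGroup (Fin n) F)) {i j : Fin n}
    (hij : i ≠ j) : ¬ (CC β (setA n F i) ∧ CC β (setB n F j)) := by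
  rintro ⟨⟨a, ha⟩, ⟨b, hb⟩⟩
  obtain ⟨k, hki, hkj⟩ := exists_third hn i j
  obtain ⟨s₁, hs₁, e₁⟩ := ha (X i j 1) (X_hasCentre hij 1)
  obtain ⟨s₂, hs₂, e₂⟩ := hb (X i j 1) (X_hasAxis hij 1)
  have h12 : s₁ = s₂ := hs₁.isTv.eq_of_mk_eq (by omega) hs₂.isTv (e₁.symm.trans e₂)
  subst h12
  have hne : s₁ ≠ 1 := by
    rintro rfl
    rw [QuotientGroup.mk_one] at e₁
    exact mk_X_ne_one hij one_ne_zero ((map_eq_one_iff β β.injective).mp e₁)
  obtain ⟨φ₁, h1, rfl⟩ := hs₁.exists_tv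
  obtain ⟨ψ₁, h2, h3⟩ := hs₂.exists_tv
  have h6 := (tv_eq_one_iff h1).not.mp hne
  rw [not_or] at h6
  obtain ⟨c, rfl⟩ := (par_of_tv_eq h1 h2 h6.2 h3).exists_smul h6.1
  obtain ⟨u, hu, eu⟩ := ha (X i k 1) (X_hasCentre hki.symm 1)
  obtain ⟨w, hw, ew⟩ := hb (X k j 1) (X_hasAxis hkj 1)
  have hcomm := hu.commute hw.of_smul
  have h7 : β (QuotientGroup.mk (X i k 1 * X k j 1)) = β (QuotientGroup.mk (X k j 1 * X i k 1)) := by
    rw [QuotientGroup.mk_mul, QuotientGroup.mk_mul, map_mul, map_mul, eu, ew, ← QuotientGroup.mk_mul,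
      ← QuotientGroup.mk_mul, hcomm]
  have h8 := β.injective h7
  rw [X_comm_rel hki.symm hkj hij, mul_assoc, QuotientGroup.mk_mul] at h8
  exact mk_X_ne_one hij (by simp : (1 : F) * 1 ≠ 0) (mul_eq_right.mp h8)

lemma cc_gam_of_aa {β : MulAut (ProjectiveSpecialLinearGroup (Fin n) F)}
    {S : Set (SpecialLinearGroup (Fin n) F)} (h : AA β S) : CC (gam * β) S := by
  obtain ⟨φ, hφ⟩ := h
  refine ⟨φ, fun s hs => ?_⟩
  obtain ⟨s', hs', e⟩ := hφ s hs
  obtain ⟨a, h0, rfl⟩ := hs'.exists_tv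
  refine ⟨invT (tv a φ), ?_, ?_⟩
  · rw [invT_tv h0]
    exact hasCentre_tv (by rw [neg_dotProduct, dotProduct_comm, h0, neg_zero])
  · rw [MulAut.mul_apply, e, gam_mk]

lemma aa_gam_of_cc {β : MulAut (ProjectiveSpecialLinearGroup (Fin n) F)}
    {S : Set (SpecialLinearGroup (Fin n) F)} (h : CC β S) : AA (gam * β) S := by
  obtain ⟨a, ha⟩ := h
  refine ⟨-a, fun s hs => ?_⟩
  obtain ⟨s', hs', e⟩ := ha s hs
  obtain ⟨φ, h0, rfl⟩ := hs'.exists_tv
  refine ⟨invT (tv a φ), ?_, ?_⟩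
  · rw [invT_tv h0]
    exact hasAxis_tv (by rw [neg_dotProduct, dotProduct_comm, h0, neg_zero])
  · rw [MulAut.mul_apply, e, gam_mk]

theorem not_aa_aa (hn : 3 ≤ n) (β : MulAut (ProjectiveSpecialLinearGroup (Fin n) F)) {i j : Fin n}
    (hij : i ≠ j) : ¬ (AA β (setA n F i) ∧ AA β (setB n F j)) := fun h =>
  not_cc_cc hn (gam * β) hij ⟨cc_gam_of_aa h.1, cc_gam_of_aa h.2⟩

theorem types (hn : 3 ≤ n) {β : MulAut (ProjectiveSpecialLinearGroup (Fin n) F)} (hβ : PresTv β) :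
    ((∀ i, CC β (setA n F i)) ∧ ∀ j, AA β (setB n F j)) ∨
    ((∀ i, AA β (setA n F i)) ∧ ∀ j, CC β (setB n F j)) := by
  have hA : ∀ i, CC β (setA n F i) ∨ AA β (setA n F i) := fun i =>
    cc_or_aa hn hβ _ (fun s hs => HasCentre.isTv hs) (fun s hs t ht => HasCentre.mul hs ht)
  have hB : ∀ j, CC β (setB n F j) ∨ AA β (setB n F j) := fun j =>
    cc_or_aa hn hβ _ (fun s hs => HasAxis.isTv hs) (fun s hs t ht => HasAxis.mul hs ht)
  have c2a : ∀ i j, i ≠ j → CC β (setA n F i) → AA β (setB n F j) := fun i j hij h =>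
    (hB j).resolve_left fun h' => not_cc_cc hn β hij ⟨h, h'⟩
  have a2c : ∀ i j, i ≠ j → AA β (setA n F i) → CC β (setB n F j) := fun i j hij h =>
    (hB j).resolve_right fun h' => not_aa_aa hn β hij ⟨h, h'⟩
  have a2c' : ∀ i j, i ≠ j → AA β (setB n F j) → CC β (setA n F i) := fun i j hij h =>
    (hA i).resolve_right fun h' => not_aa_aa hn β hij ⟨h', h⟩
  have c2a' : ∀ i j, i ≠ j → CC β (setB n F j) → AA β (setA n F i) := fun i j hij h =>
    (hA i).resolve_left fun h' => not_cc_cc hn β hij ⟨h', h⟩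
  let c0 : Fin n := ⟨0, by omega⟩
  rcases hA c0 with h0 | h0
  · left
    have hAll : ∀ i, CC β (setA n F i) := by
      intro i
      obtain ⟨j, hj0, hji⟩ := exists_third hn c0 i
      exact a2c' i j hji.symm (c2a c0 j hj0.symm h0)
    refine ⟨hAll, fun j => ?_⟩
    obtain ⟨i, hij, -⟩ := exists_third hn j j
    exact c2a i j hij (hAll i)
  · right
    have hAll : ∀ i, AA β (setA n F i) := by
      intro i
      obtain ⟨j, hj0, hji⟩ := exists_third hn c0 i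
      exact c2a' i j hji.symm (a2c c0 j hj0.symm h0)
    refine ⟨hAll, fun j => ?_⟩
    obtain ⟨i, hij, -⟩ := exists_third hn j j
    exact a2c i j hij (hAll i)

end Cfsg.Agent.Lib.Helper43.PA
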