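import Cfsg.Agent.Lib.Helper43.PA.Three

set_option autoImplicit false

/-!
Automorphisms of `PSL_n(F)`, `n ≥ 3`: the frame argument.
-/

namespace Cfsg.Agent.Lib.Helper43.PA

open Matrix

variable {n : ℕ} {F : Type*} [Field F]

lemma tv_smul_inj {a φ : Fin n → F} {c d : F} (ha : a ≠ 0) (hφ : φ ≠ 0) (h0 : φ ⬝ᵥ a = 0)
    (h : tv (c • a) φ = tv (d • a) φ) : c = d := by
  have h1 := congrArg Subtype.val h
  rw [tv_coe (by rw [dotProduct_smul, h0, smul_zero]), tv_coe (by rw [dotProduct_smul, h0, smul_zero]),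
    smul_vecMulVec, smul_vecMulVec] at h1
  have h2 : (c - d) • vecMulVec a φ = 0 := by
    rw [sub_smul, add_left_cancel h1, sub_self]
  rcases smul_eq_zero.mp h2 with h3 | h3
  · exact sub_eq_zero.mp h3
  · exact absurd h3 (vecMulVec_ne_zero ha hφ)

lemma fieldSL_X (σ : F ≃+* F) {i j : Fin n} (hij : i ≠ j) (t : F) :
    fieldSL σ (X i j t) = X i j (σ t) := by
  rw [X_eq hij, X_eq hij]
  apply SL_ext
  rw [fieldSL_coe, Matrix.SpecialLinearGroup.transvection_coe,
    Matrix.SpecialLinearGroup.transvection_coe]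
  ext k l
  simp only [Matrix.map_apply, Matrix.add_apply, map_add, one_apply, single_apply]
  split_ifs <;> simp

/-- two automorphisms agreeing on elementary transvections are equal. -/
lemma mulAut_psl_ext_X (hn : 2 ≤ n) {β β' : MulAut (ProjectiveSpecialLinearGroup (Fin n) F)}
    (h : ∀ i j : Fin n, i ≠ j → ∀ t : F, β (QuotientGroup.mk (X i j t)) = β' (QuotientGroup.mk (X i j t))) :
    β = β' := by
  have : Nontrivial (Fin n) := Fin.nontrivial_iff_two_le.mpr hn
  apply mulAut_psl_ext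
  intro s
  induction s using Cfsg.Agent.Lib.Helper5.SL_transvection_induction with
  | htransvec i j hij c => rw [← X_eq hij]; exact h i j hij c
  | hmul A B hA hB => rw [QuotientGroup.mk_mul, map_mul, map_mul, hA, hB]

theorem main_of_types [Finite F] (hn : 3 ≤ n) (β : MulAut (ProjectiveSpecialLinearGroup (Fin n) F))
    (HC : ∀ i, CC β (setA n F i)) (HA : ∀ j, AA β (setB n F j)) :
    ∃ (g : GL (Fin n) F) (σ : F ≃+* F), β = cG g * fA σ := by
  choose a ha using HC
  choose φ hφ using HA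
  have hbasic : ∀ i j t, ∃ c : F, i ≠ j →
      (β (QuotientGroup.mk (X i j t)) = QuotientGroup.mk (tv (c • a i) (φ j)) ∧
        (t ≠ 0 → a i ≠ 0 ∧ φ j ≠ 0 ∧ φ j ⬝ᵥ a i = 0 ∧ c ≠ 0)) := by
    intro i j t
    by_cases hij : i = j
    · exact ⟨0, fun h => absurd hij h⟩
    obtain ⟨s₁, hs₁, e₁⟩ := ha i (X i j t) (X_hasCentre hij t)
    obtain ⟨s₂, hs₂, e₂⟩ := hφ j (X i j t) (X_hasAxis hij t)
    have h12 : s₁ = s₂ := hs₁.isTv.eq_of_mk_eq (by omega) hs₂.isTv (e₁.symm.trans e₂)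
    subst h12
    obtain ⟨c, hc1, hc2⟩ := exists_smul_of_centre_axis hs₁ hs₂
    refine ⟨c, fun _ => ⟨hc1 ▸ e₁, fun ht => hc2 ?_⟩⟩
    rintro rfl
    rw [QuotientGroup.mk_one] at e₁
    exact mk_X_ne_one hij ht ((map_eq_one_iff β β.injective).mp e₁)
  choose c hc using hbasic
  have hO : ∀ i j, i ≠ j → a i ≠ 0 ∧ φ j ≠ 0 ∧ φ j ⬝ᵥ a i = 0 ∧ c i j 1 ≠ 0 := fun i j hij =>
    (hc i j 1 hij).2 one_ne_zero
  have hOs : ∀ i j, i ≠ j → ∀ x : F, φ j ⬝ᵥ (x • a i) = 0 := fun i j hij x => by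
    rw [dotProduct_smul, (hO i j hij).2.2.1, smul_zero]
  have hadd : ∀ i j, i ≠ j → ∀ s t, c i j (s + t) = c i j s + c i j t := by
    intro i j hij s t
    have e := (hc i j (s + t) hij).1
    rw [X_add hij, QuotientGroup.mk_mul, map_mul, (hc i j s hij).1, (hc i j t hij).1,
      ← QuotientGroup.mk_mul, tv_mul_tv_same_axis (hOs i j hij _) (hOs i j hij _), ← add_smul] at e
    have e2 := (isTv_tv _ _).eq_of_mk_eq (by omega) (isTv_tv _ _) e
    exact (tv_smul_inj (hO i j hij).1 (hO i j hij).2.1 (hO i j hij).2.2.1 e2).symm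
  have hmul : ∀ i j k, i ≠ j → j ≠ k → i ≠ k → ∀ s t,
      c i k (s * t) = (c j k t * (φ j ⬝ᵥ a j)) * c i j s := by
    intro i j k hij hjk hik s t
    have e := congrArg (fun x => β (QuotientGroup.mk x)) (X_comm_rel hij hjk hik s t)
    simp only [QuotientGroup.mk_mul, map_mul] at e
    rw [(hc i j s hij).1, (hc j k t hjk).1, (hc i k (s * t) hik).1, ← QuotientGroup.mk_mul,
      tv_comm_rel (hOs i j hij _) (hOs j k hjk _) (hOs i k hik _), QuotientGroup.mk_mul,
      QuotientGroup.mk_mul] at e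
    have e1 := mul_right_cancel (mul_right_cancel e)
    have e2 := (isTv_tv _ _).eq_of_mk_eq (by omega) (isTv_tv _ _) e1
    rw [smul_smul, dotProduct_smul, smul_eq_mul] at e2
    exact (tv_smul_inj (hO i k hik).1 (hO i k hik).2.1 (hO i k hik).2.2.1 e2).symm
  set μ : Fin n → F := fun j => φ j ⬝ᵥ a j with hμdef
  have hμ : ∀ j, μ j ≠ 0 := by
    intro j hj
    obtain ⟨i, hij, -⟩ := exists_third hn j j
    obtain ⟨k, hki, hkj⟩ := exists_third hn i j
    have := hmul i j k hij hkj.symm hki.symm 1 1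
    rw [mul_one] at this
    have hj' : φ j ⬝ᵥ a j = 0 := hj
    rw [hj', mul_zero, zero_mul] at this
    exact (hO i k hki.symm).2.2.2 this
  obtain ⟨δ, τ, hδ, hτ⟩ := lemS hn (fun i j t => μ j * c i j t)
    (fun i j hij s t => by rw [hadd i j hij, mul_add])
    (fun i j k hij hjk hik s t => by
      rw [hmul i j k hij hjk hik]
      ring)
    (fun i j hij => mul_ne_zero (hμ j) (hO i j hij).2.2.2)
  let G : Matrix (Fin n) (Fin n) F := Matrix.of fun r i => δ i * a i r
  let H : Matrix (Fin n) (Fin n) F := Matrix.of fun j r => (δ j * μ j)⁻¹ * φ j r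
  have hHG : H * G = 1 := by
    ext j i
    rw [mul_apply]
    have h1 : ∑ r, H j r * G r i = (δ j * μ j)⁻¹ * δ i * (φ j ⬝ᵥ a i) := by
      rw [dotProduct, Finset.mul_sum]
      apply Finset.sum_congr rfl
      intro r _
      simp only [H, G, of_apply]
      ring
    rw [h1]
    by_cases hij : j = i
    · subst hij
      rw [one_apply_eq]
      have := hδ j
      have := hμ j
      show (δ j * μ j)⁻¹ * δ j * μ j = 1
      field_simp
    · rw [one_apply_ne hij, (hO i j (Ne.symm hij)).2.2.1, mul_zero]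
  let g : GL (Fin n) F := ⟨G, H, mul_eq_one_comm.mp hHG, hHG⟩
  have hg1 : ∀ i, G *ᵥ Pi.single i 1 = δ i • a i := by
    intro i
    rw [mulVec_single_one]
    funext r
    simp [G, col]
  have hg2 : ∀ j, Pi.single j 1 ᵥ* H = (δ j * μ j)⁻¹ • φ j := by
    intro j
    rw [single_one_vecMul]
    funext r
    simp [H, row]
  let σ' : F ≃+* F := RingEquiv.ofBijective τ
    ⟨τ.injective, Finite.injective_iff_surjective.mp τ.injective⟩
  refine ⟨g, σ', mulAut_psl_ext_X (by omega) fun i j hij t => ?_⟩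
  rw [MulAut.mul_apply, fA_mk, cG_mk, fieldSL_X σ' hij, (hc i j t hij).1]
  congr 1
  unfold X
  rw [conjSL_tv g (X_orth hij _)]
  have e1 : g.1 *ᵥ (σ' t • Pi.single i 1) = (τ t * δ i) • a i := by
    show G *ᵥ (τ t • Pi.single i 1) = _
    rw [mulVec_smul, hg1, smul_smul]
  have e2 : (Pi.single j 1 : Fin n → F) ᵥ* (g⁻¹ : GL (Fin n) F).1 = (δ j * μ j)⁻¹ • φ j := hg2 j
  rw [e1, e2, ← tv_smul_comm, smul_smul]
  congr 2
  have h3 := hτ i j hij t
  have := hδ j
  have := hμ j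
  field_simp
  field_simp at h3
  linear_combination h3

end Cfsg.Agent.Lib.Helper43.PA
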