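import Cfsg.Agent.Lib.Helper43.PA.Basic

set_option autoImplicit false

/-!
Transvections `1 + a φᵀ` in `SL_n(F)` in matrix form.
-/

namespace Cfsg.Agent.Lib.Helper43.PA

open Matrix

variable {n : ℕ} {F : Type*} [Field F]

lemma det_one_add_vecMulVec (a φ : Fin n → F) : (1 + vecMulVec a φ).det = 1 + φ ⬝ᵥ a := by
  rw [vecMulVec_eq (ι := Unit), det_one_add_replicateCol_mul_replicateRow]

/-- constructor of `SL_n`. -/
def mkSL (M : Matrix (Fin n) (Fin n) F) (h : M.det = 1) : SpecialLinearGroup (Fin n) F := ⟨M, h⟩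

lemma mkSL_coe (M : Matrix (Fin n) (Fin n) F) (h : M.det = 1) : (mkSL M h).1 = M := rfl

lemma SL_ext {s t : SpecialLinearGroup (Fin n) F} (h : s.1 = t.1) : s = t := Subtype.ext h

open Classical in
/-- The transvection `1 + a φᵀ` (junk value `1` if `φ·a ≠ 0`). -/
noncomputable def tv (a φ : Fin n → F) : SpecialLinearGroup (Fin n) F :=
  if h : φ ⬝ᵥ a = 0 then mkSL (1 + vecMulVec a φ) (by rw [det_one_add_vecMulVec, h, add_zero]) else 1

lemma tv_coe {a φ : Fin n → F} (h : φ ⬝ᵥ a = 0) : (tv a φ).1 = 1 + vecMulVec a φ := by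
  rw [tv, dif_pos h, mkSL_coe]

/-- `s = 1 + a φᵀ` with `φ·a = 0` (possibly trivial). -/
def IsTv (s : SpecialLinearGroup (Fin n) F) : Prop :=
  ∃ a φ : Fin n → F, φ ⬝ᵥ a = 0 ∧ s.1 = 1 + vecMulVec a φ

def HasCentre (a : Fin n → F) (s : SpecialLinearGroup (Fin n) F) : Prop :=
  ∃ φ : Fin n → F, φ ⬝ᵥ a = 0 ∧ s.1 = 1 + vecMulVec a φ

def HasAxis (φ : Fin n → F) (s : SpecialLinearGroup (Fin n) F) : Prop :=
  ∃ a : Fin n → F, φ ⬝ᵥ a = 0 ∧ s.1 = 1 + vecMulVec a φ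

lemma HasCentre.isTv {a : Fin n → F} {s : SpecialLinearGroup (Fin n) F} (h : HasCentre a s) :
    IsTv s := let ⟨φ, h1, h2⟩ := h; ⟨a, φ, h1, h2⟩

lemma HasAxis.isTv {φ : Fin n → F} {s : SpecialLinearGroup (Fin n) F} (h : HasAxis φ s) :
    IsTv s := let ⟨a, h1, h2⟩ := h; ⟨a, φ, h1, h2⟩

lemma isTv_one : IsTv (1 : SpecialLinearGroup (Fin n) F) := ⟨0, 0, by simp, by simp⟩

lemma isTv_tv (a φ : Fin n → F) : IsTv (tv a φ) := by
  by_cases h : φ ⬝ᵥ a = 0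
  · exact ⟨a, φ, h, tv_coe h⟩
  · rw [tv, dif_neg h]; exact isTv_one

lemma hasCentre_tv {a φ : Fin n → F} (h : φ ⬝ᵥ a = 0) : HasCentre a (tv a φ) := ⟨φ, h, tv_coe h⟩
lemma hasAxis_tv {a φ : Fin n → F} (h : φ ⬝ᵥ a = 0) : HasAxis φ (tv a φ) := ⟨a, h, tv_coe h⟩

lemma IsTv.exists_tv {s : SpecialLinearGroup (Fin n) F} (h : IsTv s) :
    ∃ a φ : Fin n → F, φ ⬝ᵥ a = 0 ∧ s = tv a φ := by
  obtain ⟨a, φ, h1, h2⟩ := h
  exact ⟨a, φ, h1, SL_ext (by rw [h2, tv_coe h1])⟩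

lemma HasCentre.exists_tv {a : Fin n → F} {s : SpecialLinearGroup (Fin n) F} (h : HasCentre a s) :
    ∃ φ : Fin n → F, φ ⬝ᵥ a = 0 ∧ s = tv a φ := by
  obtain ⟨φ, h1, h2⟩ := h
  exact ⟨φ, h1, SL_ext (by rw [h2, tv_coe h1])⟩

lemma HasAxis.exists_tv {φ : Fin n → F} {s : SpecialLinearGroup (Fin n) F} (h : HasAxis φ s) :
    ∃ a : Fin n → F, φ ⬝ᵥ a = 0 ∧ s = tv a φ := by
  obtain ⟨a, h1, h2⟩ := h
  exact ⟨a, h1, SL_ext (by rw [h2, tv_coe h1])⟩

/-- equality in `PSL_n`. -/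
lemma exists_smul_of_mk_eq {s t : SpecialLinearGroup (Fin n) F}
    (h : (QuotientGroup.mk s : ProjectiveSpecialLinearGroup (Fin n) F) = QuotientGroup.mk t) :
    ∃ r : F, t.1 = r • s.1 := by
  rw [QuotientGroup.eq, Matrix.SpecialLinearGroup.mem_center_iff] at h
  obtain ⟨r, -, hr⟩ := h
  refine ⟨r, ?_⟩
  have h2 : t = s * (s⁻¹ * t) := by group
  have h3 : t.1 = s.1 * (s⁻¹ * t).1 := by
    conv_lhs => rw [h2]
    rfl
  rw [h3, ← hr, scalar_apply, ← smul_one_eq_diagonal, Matrix.mul_smul, Matrix.mul_one]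

/-- `u` fixes a nonzero vector. -/
def HasFix (u : SpecialLinearGroup (Fin n) F) : Prop := ∃ v : Fin n → F, v ≠ 0 ∧ u.1 *ᵥ v = v

lemma one_add_vecMulVec_mulVec (a φ v : Fin n → F) :
    (1 + vecMulVec a φ) *ᵥ v = v + (φ ⬝ᵥ v) • a := by
  rw [add_mulVec, one_mulVec, vecMulVec_mulVec, op_smul_eq_smul]

lemma eq_of_mk_eq {u t : SpecialLinearGroup (Fin n) F} (hu : HasFix u) (ht : IsTv t)
    (h : (QuotientGroup.mk u : ProjectiveSpecialLinearGroup (Fin n) F) = QuotientGroup.mk t) :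
    u = t := by
  obtain ⟨r, hr⟩ := exists_smul_of_mk_eq h
  obtain ⟨v, hv, huv⟩ := hu
  obtain ⟨a, φ, h0, hta⟩ := ht
  have h1 : v + (φ ⬝ᵥ v) • a = r • v := by
    rw [← one_add_vecMulVec_mulVec, ← hta, hr, smul_mulVec, huv]
  have h2 : (φ ⬝ᵥ v) • a = (r - 1) • v := by
    rw [sub_smul, one_smul, ← h1]; abel
  have h3 : (r - 1) * (φ ⬝ᵥ v) = 0 := by
    have := congrArg (fun w => φ ⬝ᵥ w) h2
    simp only [dotProduct_smul, h0, smul_eq_mul, mul_zero] at this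
    exact this.symm
  have hr1 : r = 1 := by
    rcases mul_eq_zero.mp h3 with h4 | h4
    · exact sub_eq_zero.mp h4
    · rw [h4, zero_smul] at h2
      rcases smul_eq_zero.mp h2.symm with h5 | h5
      · exact sub_eq_zero.mp h5
      · exact absurd h5 hv
  apply SL_ext
  rw [hr, hr1, one_smul]

lemma IsTv.hasFix (hn : 1 ≤ n) {s : SpecialLinearGroup (Fin n) F} (h : IsTv s) : HasFix s := by
  obtain ⟨a, φ, h0, hs⟩ := h
  by_cases ha : a = 0
  · refine ⟨Pi.single ⟨0, hn⟩ 1, ?_, ?_⟩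
    · intro h
      have := congrFun h ⟨0, hn⟩
      simp at this
    · rw [hs, ha, zero_vecMulVec, add_zero, one_mulVec]
  · exact ⟨a, ha, by rw [hs, one_add_vecMulVec_mulVec, h0, zero_smul, add_zero]⟩

lemma IsTv.eq_of_mk_eq (hn : 1 ≤ n) {s t : SpecialLinearGroup (Fin n) F} (hs : IsTv s) (ht : IsTv t)
    (h : (QuotientGroup.mk s : ProjectiveSpecialLinearGroup (Fin n) F) = QuotientGroup.mk t) :
    s = t := PA.eq_of_mk_eq (hs.hasFix hn) ht h

lemma exists_common_kernel (hn : 3 ≤ n) (φ ψ : Fin n → F) :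
    ∃ v : Fin n → F, v ≠ 0 ∧ φ ⬝ᵥ v = 0 ∧ ψ ⬝ᵥ v = 0 := by
  let f : (Fin n → F) →ₗ[F] (Fin 2 → F) := (Matrix.of ![φ, ψ]).mulVecLin
  have h : LinearMap.ker f ≠ ⊥ := by
    apply LinearMap.ker_ne_bot_of_finrank_lt
    simp
    omega
  obtain ⟨v, hv, hv0⟩ := (Submodule.ne_bot_iff _).mp h
  refine ⟨v, hv0, ?_, ?_⟩
  · have := congrFun (LinearMap.mem_ker.mp hv) 0
    simpa [f, mulVec] using this
  · have := congrFun (LinearMap.mem_ker.mp hv) 1
    simpa [f, mulVec] using this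

/-! ### algebra of `tv` -/

lemma tv_zero_left (φ : Fin n → F) : tv 0 φ = 1 := by
  apply SL_ext
  rw [tv_coe (by simp)]; simp

lemma tv_zero_right (a : Fin n → F) : tv a 0 = 1 := by
  apply SL_ext
  rw [tv_coe (by simp)]; simp

lemma tv_eq_one_iff {a φ : Fin n → F} (h : φ ⬝ᵥ a = 0) : tv a φ = 1 ↔ a = 0 ∨ φ = 0 := by
  constructor
  · intro h1
    have h2 := congrArg Subtype.val h1
    rw [tv_coe h] at h2
    have h3 : vecMulVec a φ = 0 := by
      have : (1 : Matrix (Fin n) (Fin n) F) + vecMulVec a φ = 1 + 0 := by rw [add_zero]; exact h2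
      exact add_left_cancel this
    exact vecMulVec_eq_zero.mp h3
  · rintro (rfl | rfl)
    · exact tv_zero_left _
    · exact tv_zero_right _

lemma tv_mul_tv_same_centre {a φ ψ : Fin n → F} (h1 : φ ⬝ᵥ a = 0) (h2 : ψ ⬝ᵥ a = 0) :
    tv a φ * tv a ψ = tv a (φ + ψ) := by
  apply SL_ext
  rw [Matrix.SpecialLinearGroup.coe_mul, tv_coe h1, tv_coe h2, tv_coe (by rw [add_dotProduct, h1, h2, add_zero])]
  rw [add_mul, mul_add, mul_add, vecMulVec_mul_vecMulVec, h1, vecMulVec_add]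
  simp only [Matrix.one_mul, Matrix.mul_one, zero_smul, vecMulVec_zero, add_zero]
  abel

lemma tv_mul_tv_same_axis {a b φ : Fin n → F} (h1 : φ ⬝ᵥ a = 0) (h2 : φ ⬝ᵥ b = 0) :
    tv a φ * tv b φ = tv (a + b) φ := by
  apply SL_ext
  rw [Matrix.SpecialLinearGroup.coe_mul, tv_coe h1, tv_coe h2, tv_coe (by rw [dotProduct_add, h1, h2, add_zero])]
  rw [add_mul, mul_add, mul_add, vecMulVec_mul_vecMulVec, h2, add_vecMulVec]
  simp only [Matrix.one_mul, Matrix.mul_one, zero_smul, vecMulVec_zero, add_zero]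
  abel

lemma tv_smul_comm (c : F) (a φ : Fin n → F) : tv (c • a) φ = tv a (c • φ) := by
  by_cases h : φ ⬝ᵥ a = 0
  · apply SL_ext
    rw [tv_coe (by rw [dotProduct_smul, h, smul_zero]), tv_coe (by rw [smul_dotProduct, h, smul_zero]),
      smul_vecMulVec, vecMulVec_smul]
  · by_cases hc : c = 0
    · subst hc; simp [tv_zero_left, tv_zero_right]
    · rw [tv, tv, dif_neg, dif_neg]
      · rw [smul_dotProduct]; exact smul_ne_zero hc h
      · rw [dotProduct_smul]; exact smul_ne_zero hc h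

/-- the commutator relation. -/
lemma tv_comm_rel {a b φ ψ : Fin n → F} (h1 : φ ⬝ᵥ a = 0) (h2 : ψ ⬝ᵥ b = 0) (h3 : ψ ⬝ᵥ a = 0) :
    tv a φ * tv b ψ = tv ((φ ⬝ᵥ b) • a) ψ * tv b ψ * tv a φ := by
  apply SL_ext
  rw [Matrix.SpecialLinearGroup.coe_mul, Matrix.SpecialLinearGroup.coe_mul, Matrix.SpecialLinearGroup.coe_mul,
    tv_coe h1, tv_coe h2, tv_coe (by rw [dotProduct_smul, h3, smul_zero])]
  simp only [add_mul, mul_add, Matrix.one_mul, Matrix.mul_one, vecMulVec_mul_vecMulVec, h1, h2, h3,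
    smul_vecMulVec, zero_smul, add_zero, smul_zero, Matrix.smul_mul, Matrix.mul_smul,
    vecMulVec_smul, vecMulVec_zero, zero_dotProduct]
  abel

lemma conjSL_tv (g : GL (Fin n) F) {a φ : Fin n → F} (h : φ ⬝ᵥ a = 0) :
    conjSL g (tv a φ) = tv (g.1 *ᵥ a) (φ ᵥ* (g⁻¹ : GL (Fin n) F).1) := by
  have h' : (φ ᵥ* (g⁻¹ : GL (Fin n) F).1) ⬝ᵥ (g.1 *ᵥ a) = 0 := by
    rw [← dotProduct_mulVec, mulVec_mulVec, ← Units.val_mul, inv_mul_cancel]
    simpa using h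
  apply SL_ext
  rw [conjSL_coe, tv_coe h, tv_coe h', mul_add, add_mul, Matrix.mul_one, ← Units.val_mul,
    mul_inv_cancel, mul_vecMulVec, vecMulVec_mul]
  rfl

lemma IsTv.conjSL (g : GL (Fin n) F) {s : SpecialLinearGroup (Fin n) F} (h : IsTv s) :
    IsTv (conjSL g s) := by
  obtain ⟨a, φ, h0, rfl⟩ := h.exists_tv
  rw [conjSL_tv g h0]
  exact isTv_tv _ _

lemma tv_inv {a φ : Fin n → F} (h : φ ⬝ᵥ a = 0) : (tv a φ)⁻¹ = tv (-a) φ := by
  apply inv_eq_of_mul_eq_one_right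
  rw [tv_mul_tv_same_axis h (by rw [dotProduct_neg, h, neg_zero]), add_neg_cancel, tv_zero_left]

lemma invT_tv {a φ : Fin n → F} (h : φ ⬝ᵥ a = 0) : invT (tv a φ) = tv φ (-a) := by
  rw [invT_apply, tv_inv h]
  apply SL_ext
  rw [Matrix.SpecialLinearGroup.coe_transpose, tv_coe (by rw [dotProduct_neg, h, neg_zero]),
    tv_coe (by rw [neg_dotProduct, dotProduct_comm, h, neg_zero]), transpose_add, transpose_one,
    transpose_vecMulVec]

lemma transvection_eq_tv {i j : Fin n} (hij : i ≠ j) (t : F) :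
    SpecialLinearGroup.transvection hij t = tv (t • Pi.single i 1) (Pi.single j 1) := by
  apply SL_ext
  rw [Matrix.SpecialLinearGroup.transvection_coe, tv_coe (by simp [hij.symm]), smul_vecMulVec,
    ← single_eq_single_vecMulVec_single, smul_single, smul_eq_mul, mul_one]

lemma single_dotProduct_single {i j : Fin n} (hij : i ≠ j) :
    (Pi.single j 1 : Fin n → F) ⬝ᵥ (Pi.single i 1) = 0 := by simp [hij.symm]

end Cfsg.Agent.Lib.Helper43.PA
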