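import Cfsg.Agent.Lib.Helper43.PA.Three2
import Cfsg.Agent.Lib.Helper43.PA.Alg2
set_option autoImplicit false
namespace Cfsg.Agent.Lib.Helper43.PA
open Matrix
variable {F : Type*} [Field F]

lemma X01_coe (t : F) : (X (0 : Fin 2) 1 t).1 = !![1, t; 0, 1] := by
  rw [X_eq (by decide), Matrix.SpecialLinearGroup.transvection_coe]
  ext i j
  fin_cases i <;> fin_cases j <;> simp

lemma X10_coe (t : F) : (X (1 : Fin 2) 0 t).1 = !![1, 0; t, 1] := by
  rw [X_eq (by decide), Matrix.SpecialLinearGroup.transvection_coe]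
  ext i j
  fin_cases i <;> fin_cases j <;> simp

lemma mat2_ext {a b c d a' b' c' d' : F} (h1 : a = a') (h2 : b = b') (h3 : c = c') (h4 : d = d') :
    !![a, b; c, d] = !![a', b'; c', d'] := by rw [h1, h2, h3, h4]

lemma mat2_inj {a b c d a' b' c' d' : F} (h : !![a, b; c, d] = !![a', b'; c', d']) :
    a = a' ∧ b = b' ∧ c = c' ∧ d = d' := by
  refine ⟨?_, ?_, ?_, ?_⟩
  · simpa using congrFun (congrFun h 0) 0
  · simpa using congrFun (congrFun h 0) 1
  · simpa using congrFun (congrFun h 1) 0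
  · simpa using congrFun (congrFun h 1) 1

lemma w_rel {t : F} (ht : t ≠ 0) (s : F) :
    (X (0 : Fin 2) 1 t * X 1 0 (-t⁻¹) * X 0 1 t) * X 0 1 s =
      X 1 0 (-(t⁻¹) ^ 2 * s) * (X (0 : Fin 2) 1 t * X 1 0 (-t⁻¹) * X 0 1 t) := by
  apply SL_ext
  simp only [Matrix.SpecialLinearGroup.coe_mul, X01_coe, X10_coe, Matrix.mul_fin_two]
  apply mat2_ext <;> field_simp <;> ring


lemma mk_X_inj {n : ℕ} (hn : 1 ≤ n) {i j : Fin n} (hij : i ≠ j) {c d : F}
    (h : (QuotientGroup.mk (X i j c) : ProjectiveSpecialLinearGroup (Fin n) F) =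
      QuotientGroup.mk (X i j d)) : c = d := by
  have h1 := (isTv_tv _ _).eq_of_mk_eq hn (isTv_tv _ _) h
  refine tv_smul_inj ?_ ?_ (single_dotProduct_single hij) h1
  · intro h; simpa using congrFun h i
  · intro h; simpa using congrFun h j

/-- the relations forced on `σ`, `ρ`. -/
lemma two_rel (β : MulAut (ProjectiveSpecialLinearGroup (Fin 2) F)) (σ ρ : F → F)
    (h01 : ∀ t, β (QuotientGroup.mk (X 0 1 t)) = QuotientGroup.mk (X 0 1 (σ t)))
    (h10 : ∀ t, β (QuotientGroup.mk (X 1 0 t)) = QuotientGroup.mk (X 1 0 (ρ t)))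
    {t : F} (ht : t ≠ 0) (s : F) (hs : σ s ≠ 0) :
    σ t * ρ (-t⁻¹) = -1 ∧ ρ (-(t⁻¹) ^ 2 * s) * σ t = ρ (-t⁻¹) * σ s := by
  have e := congrArg (fun x => β (QuotientGroup.mk x)) (w_rel ht s)
  simp only [QuotientGroup.mk_mul, map_mul, h01, h10] at e
  simp only [← QuotientGroup.mk_mul] at e
  obtain ⟨r, hr⟩ := exists_smul_of_mk_eq e
  simp only [Matrix.SpecialLinearGroup.coe_mul, X01_coe, X10_coe, Matrix.mul_fin_two, Matrix.smul_of,
    Matrix.smul_cons, Matrix.smul_empty, smul_eq_mul] at hr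
  obtain ⟨e00, e01, e10, e11⟩ := mat2_inj hr
  generalize σ t = a at *
  generalize ρ (-t⁻¹) = b at *
  generalize σ s = u at *
  generalize ρ (-(t⁻¹) ^ 2 * s) = v at *
  have hP : 1 + a * b = 0 := by
    by_contra hP
    have hr1 : r = 1 := by
      have : (1 + a * b) * (r - 1) = 0 := by linear_combination -e00
      rcases mul_eq_zero.mp this with h | h
      · exact absurd h hP
      · exact sub_eq_zero.mp h
    subst hr1
    have : (1 + a * b) * u = 0 := by linear_combination -e01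
    rcases mul_eq_zero.mp this with h | h
    · exact hP h
    · exact hs h
  have hab : a * b = -1 := by linear_combination hP
  have hb : b ≠ 0 := by
    rintro rfl
    rw [mul_zero] at hab
    exact one_ne_zero (by linear_combination hab : (1 : F) = 0)
  have hr1 : r = 1 := by
    have : b * (r - 1) = 0 := by linear_combination -e10 + v * hP
    rcases mul_eq_zero.mp this with h | h
    · exact absurd h hb
    · exact sub_eq_zero.mp h
  subst hr1
  refine ⟨hab, ?_⟩
  linear_combination e11 - (v * a) * hP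


theorem two_final [Finite F] (β : MulAut (ProjectiveSpecialLinearGroup (Fin 2) F)) (σ ρ : F → F)
    (h01 : ∀ t, β (QuotientGroup.mk (X 0 1 t)) = QuotientGroup.mk (X 0 1 (σ t)))
    (h10 : ∀ t, β (QuotientGroup.mk (X 1 0 t)) = QuotientGroup.mk (X 1 0 (ρ t))) :
    ∃ (g : GL (Fin 2) F) (τ : F ≃+* F), β = cG g * fA τ := by
  have hne : (0 : Fin 2) ≠ 1 := by decide
  have hadd : ∀ s t, σ (s + t) = σ s + σ t := by
    intro s t
    have e := h01 (s + t)
    rw [X_add hne, QuotientGroup.mk_mul, map_mul, h01, h01, ← QuotientGroup.mk_mul, ← X_add hne] at e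
    exact (mk_X_inj (by omega) hne e).symm
  have hinj : ∀ t, σ t = 0 → t = 0 := by
    intro t ht
    by_contra h
    have e := h01 t
    rw [ht] at e
    have h1 : (QuotientGroup.mk (X (0 : Fin 2) 1 (0 : F)) : ProjectiveSpecialLinearGroup (Fin 2) F) = 1 := by
      rw [X, zero_smul, tv_zero_left, QuotientGroup.mk_one]
    rw [h1] at e
    exact mk_X_ne_one hne h ((map_eq_one_iff β β.injective).mp e)
  have hρ0 : ρ 0 = 0 := by
    have e := h10 0
    have h1 : (QuotientGroup.mk (X (1 : Fin 2) 0 (0 : F)) : ProjectiveSpecialLinearGroup (Fin 2) F) = 1 := by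
      rw [X, zero_smul, tv_zero_left, QuotientGroup.mk_one]
    rw [h1, map_one] at e
    by_contra h
    exact mk_X_ne_one hne.symm h e.symm
  obtain ⟨d, τ, hd, hσ, hρ⟩ := alg2 σ ρ hadd hinj hρ0
    (fun t ht => (two_rel β σ ρ h01 h10 ht 1 (fun h => one_ne_zero (hinj 1 h))).1)
    (fun t ht s hs => (two_rel β σ ρ h01 h10 ht s (fun h => hs (hinj s h))).2)
  let g : GL (Fin 2) F := ⟨!![d, 0; 0, 1], !![d⁻¹, 0; 0, 1],
    by rw [Matrix.mul_fin_two, Matrix.one_fin_two]; apply mat2_ext <;> simp [hd],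
    by rw [Matrix.mul_fin_two, Matrix.one_fin_two]; apply mat2_ext <;> simp [hd]⟩
  let τ' : F ≃+* F := RingEquiv.ofBijective τ
    ⟨τ.injective, Finite.injective_iff_surjective.mp τ.injective⟩
  refine ⟨g, τ', mulAut_psl_ext_X (by omega) fun i j hij t => ?_⟩
  rw [MulAut.mul_apply, fA_mk, cG_mk, fieldSL_X τ' hij]
  have hτ' : τ' t = τ t := rfl
  have hcases : (i = 0 ∧ j = 1) ∨ (i = 1 ∧ j = 0) := by
    fin_cases i <;> fin_cases j <;> simp at hij ⊢
  rcases hcases with ⟨rfl, rfl⟩ | ⟨rfl, rfl⟩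
  · rw [h01]
    congr 1
    apply SL_ext
    rw [conjSL_coe, X01_coe, X01_coe]
    show _ = !![d, 0; 0, 1] * _ * !![d⁻¹, 0; 0, 1]
    rw [Matrix.mul_fin_two, Matrix.mul_fin_two, hσ, hτ']
    apply mat2_ext <;> simp [hd]
  · rw [h10]
    congr 1
    apply SL_ext
    rw [conjSL_coe, X10_coe, X10_coe]
    show _ = !![d, 0; 0, 1] * _ * !![d⁻¹, 0; 0, 1]
    rw [Matrix.mul_fin_two, Matrix.mul_fin_two, hρ, hτ']
    apply mat2_ext <;> simp [hd, mul_comm]

end Cfsg.Agent.Lib.Helper43.PA
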