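import Cfsg.Agent.Lib.Helper43.PA.Two
import Cfsg.Agent.Lib.Helper43.PA.Star
set_option autoImplicit false
namespace Cfsg.Agent.Lib.Helper43.PA
open Matrix
variable {F : Type*} [Field F]

lemma conj_orth {n : ℕ} (g : GL (Fin n) F) {a φ : Fin n → F} (h : φ ⬝ᵥ a = 0) :
    (φ ᵥ* (g⁻¹ : GL (Fin n) F).1) ⬝ᵥ (g.1 *ᵥ a) = 0 := by
  rw [← dotProduct_mulVec, mulVec_mulVec, ← Units.val_mul, inv_mul_cancel]
  simpa using h

lemma mem_LT_two [Finite F] {s : SpecialLinearGroup (Fin 2) F} (hs : s ∈ LT 2 F) :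
    ∃ t, s = X 1 0 t := by
  obtain ⟨h1, h2⟩ := mem_LT.mp hs
  refine ⟨s.1 1 0, ?_⟩
  apply SL_ext
  rw [X10_coe]
  ext i j
  fin_cases i <;> fin_cases j
  · simpa using h2 0
  · simpa using h1 0 1 (by decide)
  · simp
  · simpa using h2 1

lemma X10_mem_LT [Finite F] (t : F) : X (1 : Fin 2) 0 t ∈ LT 2 F := by
  rw [X_eq (by decide)]
  exact transvection_mem_LT (by decide) t

lemma par_of_orth_two {a φ ψ : Fin 2 → F} (ha : a ≠ 0) (h1 : φ ⬝ᵥ a = 0) (h2 : ψ ⬝ᵥ a = 0) :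
    Par φ ψ := by
  simp only [dotProduct, Fin.sum_univ_two] at h1 h2
  have key : φ 0 * ψ 1 = φ 1 * ψ 0 := by
    have e0 : a 0 * (φ 0 * ψ 1 - φ 1 * ψ 0) = 0 := by linear_combination ψ 1 * h1 - φ 1 * h2
    have e1 : a 1 * (φ 0 * ψ 1 - φ 1 * ψ 0) = 0 := by linear_combination φ 0 * h2 - ψ 0 * h1
    by_contra hne
    have hne' : φ 0 * ψ 1 - φ 1 * ψ 0 ≠ 0 := sub_ne_zero.mpr hne
    apply ha
    funext i
    fin_cases i
    · exact (mul_eq_zero.mp e0).resolve_right hne'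
    · exact (mul_eq_zero.mp e1).resolve_right hne'
  intro i k
  fin_cases i <;> fin_cases k
  · rfl
  · exact key
  · exact key.symm
  · rfl

lemma par_two_iff {a b : Fin 2 → F} (h : a 0 * b 1 = a 1 * b 0) : Par a b := by
  intro i k
  fin_cases i <;> fin_cases k
  · rfl
  · exact h
  · exact h.symm
  · rfl

lemma not_comm_two :
    (QuotientGroup.mk (X (0 : Fin 2) 1 (1 : F) * X 1 0 1) : ProjectiveSpecialLinearGroup (Fin 2) F) ≠
      QuotientGroup.mk (X (1 : Fin 2) 0 (1 : F) * X 0 1 1) := by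
  intro h
  obtain ⟨r, hr⟩ := exists_smul_of_mk_eq h
  simp only [Matrix.SpecialLinearGroup.coe_mul, X01_coe, X10_coe, Matrix.mul_fin_two, Matrix.smul_of,
    Matrix.smul_cons, Matrix.smul_empty, smul_eq_mul] at hr
  obtain ⟨e00, e01, e10, e11⟩ := mat2_inj hr
  have hr1 : r = 1 := by linear_combination -e01
  subst hr1
  exact one_ne_zero (by linear_combination -e00 : (1 : F) = 0)

/-- the swap matrix. -/
def swapGL (F : Type*) [Field F] : GL (Fin 2) F := ⟨!![0, 1; 1, 0], !![0, 1; 1, 0],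
    by rw [Matrix.mul_fin_two, Matrix.one_fin_two]; apply mat2_ext <;> simp,
    by rw [Matrix.mul_fin_two, Matrix.one_fin_two]; apply mat2_ext <;> simp⟩

lemma conjSL_swap (t : F) : conjSL (swapGL F) (X 1 0 t) = X 0 1 t := by
  apply SL_ext
  rw [conjSL_coe, X10_coe, X01_coe]
  show !![0, 1; 1, 0] * _ * !![0, 1; 1, 0] = _
  rw [Matrix.mul_fin_two, Matrix.mul_fin_two]
  apply mat2_ext <;> simp

/-- The image of the lower unipotent subgroup under an automorphism. -/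
lemma exists_centre_axis_two [Fintype F] {p f : ℕ} [hp : Fact p.Prime] (hF : Fintype.card F = p ^ f)
    (hf : 1 ≤ f) (β : MulAut (ProjectiveSpecialLinearGroup (Fin 2) F)) :
    ∃ a ψ : Fin 2 → F, a ≠ 0 ∧ ψ ≠ 0 ∧ ψ ⬝ᵥ a = 0 ∧
      ∀ t : F, ∃ t' : F, β (QuotientGroup.mk (X 1 0 t)) = QuotientGroup.mk (tv (t' • a) ψ) := by
  obtain ⟨g, h1, -⟩ := exists_conj_LT hF hf (by omega) β
  have hne : (1 : Fin 2) ≠ 0 := by decide
  have key : ∀ t : F, ∃ t' : F, β (QuotientGroup.mk (X 1 0 t)) = QuotientGroup.mk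
      (tv (t' • ((SpecialLinearGroup.toGL g).1 *ᵥ Pi.single 1 1))
        (Pi.single 0 1 ᵥ* ((SpecialLinearGroup.toGL g)⁻¹ : GL (Fin 2) F).1)) := by
    intro t
    obtain ⟨s', hs', e⟩ := h1 _ (X10_mem_LT t)
    obtain ⟨t', rfl⟩ := mem_LT_two hs'
    refine ⟨t', ?_⟩
    rw [e, ← conjSL_toGL, X, conjSL_tv _ (X_orth hne t'), mulVec_smul]
  have horth := conj_orth (SpecialLinearGroup.toGL g) (single_dotProduct_single (F := F) hne)
  obtain ⟨t', ht'⟩ := key 1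
  have hne1 : tv (t' • ((SpecialLinearGroup.toGL g).1 *ᵥ Pi.single 1 1))
        (Pi.single 0 1 ᵥ* ((SpecialLinearGroup.toGL g)⁻¹ : GL (Fin 2) F).1) ≠ 1 := by
    intro h
    rw [h, QuotientGroup.mk_one] at ht'
    exact mk_X_ne_one hne one_ne_zero ((map_eq_one_iff β β.injective).mp ht')
  rw [Ne, tv_eq_one_iff (by rw [dotProduct_smul, horth, smul_zero]), not_or] at hne1
  refine ⟨_, _, ?_, hne1.2, horth, key⟩
  intro h
  apply hne1.1
  rw [h, smul_zero]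


theorem aut_two [Fintype F] {p f : ℕ} [hp : Fact p.Prime] (hF : Fintype.card F = p ^ f)
    (hf : 1 ≤ f) (β : MulAut (ProjectiveSpecialLinearGroup (Fin 2) F)) :
    ∃ (g : GL (Fin 2) F) (τ : F ≃+* F), β = cG g * fA τ := by
  obtain ⟨a1, ψ1, ha1, hψ1, h1, k1⟩ := exists_centre_axis_two hF hf β
  obtain ⟨a0, ψ0, ha0, hψ0, h0, k0'⟩ := exists_centre_axis_two hF hf (β * cG (swapGL F))
  have k0 : ∀ t : F, ∃ t' : F, β (QuotientGroup.mk (X 0 1 t)) = QuotientGroup.mk (tv (t' • a0) ψ0) := by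
    intro t
    obtain ⟨t', e⟩ := k0' t
    refine ⟨t', ?_⟩
    rw [MulAut.mul_apply, cG_mk, conjSL_swap] at e
    exact e
  have hnp : a0 0 * a1 1 - a0 1 * a1 0 ≠ 0 := by
    intro h
    have hpar : Par a0 a1 := par_two_iff (sub_eq_zero.mp h)
    obtain ⟨c, rfl⟩ := hpar.exists_smul ha0
    obtain ⟨t0, e0⟩ := k0 1
    obtain ⟨t1, e1⟩ := k1 1
    have hc0 : HasCentre a0 (tv (t0 • a0) ψ0) :=
      hasCentre_tv_smul (by rw [dotProduct_smul, h0, smul_zero])
    have hc1 : HasCentre a0 (tv (t1 • c • a0) ψ1) := by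
      rw [smul_smul]
      exact hasCentre_tv_smul (by rw [← smul_smul, dotProduct_smul, h1, smul_zero])
    have hcomm := hc0.commute hc1
    apply not_comm_two (F := F)
    apply β.injective
    rw [QuotientGroup.mk_mul, QuotientGroup.mk_mul, map_mul, map_mul, e0, e1, ← QuotientGroup.mk_mul,
      ← QuotientGroup.mk_mul, hcomm]
  let K : GL (Fin 2) F := GeneralLinearGroup.mkOfDetNeZero !![a0 0, a1 0; a0 1, a1 1] (by
    rw [det_fin_two_of]
    intro h
    apply hnp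
    linear_combination h)
  have hK0 : K.1 *ᵥ Pi.single 0 1 = a0 := by
    show !![a0 0, a1 0; a0 1, a1 1] *ᵥ Pi.single 0 1 = a0
    funext i
    fin_cases i <;> simp [mulVec, dotProduct, Fin.sum_univ_two]
  have hK1 : K.1 *ᵥ Pi.single 1 1 = a1 := by
    show !![a0 0, a1 0; a0 1, a1 1] *ᵥ Pi.single 1 1 = a1
    funext i
    fin_cases i <;> simp [mulVec, dotProduct, Fin.sum_univ_two]
  have hne01 : (0 : Fin 2) ≠ 1 := by decide
  have c01 : ∀ u : F, conjSL K (X 0 1 u) = tv (u • a0) (Pi.single 1 1 ᵥ* (K⁻¹ : GL (Fin 2) F).1) := by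
    intro u
    rw [X, conjSL_tv _ (X_orth hne01 u), mulVec_smul, hK0]
  have c10 : ∀ u : F, conjSL K (X 1 0 u) = tv (u • a1) (Pi.single 0 1 ᵥ* (K⁻¹ : GL (Fin 2) F).1) := by
    intro u
    rw [X, conjSL_tv _ (X_orth hne01.symm u), mulVec_smul, hK1]
  have o1 := conj_orth K (single_dotProduct_single (F := F) hne01)
  have o0 := conj_orth K (single_dotProduct_single (F := F) hne01.symm)
  rw [hK0] at o1
  rw [hK1] at o0
  have hχ1 : (Pi.single 1 1 ᵥ* (K⁻¹ : GL (Fin 2) F).1 : Fin 2 → F) ≠ 0 := by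
    intro h
    have e := c01 1
    rw [h, tv_zero_right] at e
    have e2 := (map_eq_one_iff (conjSL K) (conjSL K).injective).mp e
    have e3 := mk_X_ne_one (F := F) hne01 one_ne_zero
    rw [e2, QuotientGroup.mk_one] at e3
    exact e3 rfl
  have hχ0 : (Pi.single 0 1 ᵥ* (K⁻¹ : GL (Fin 2) F).1 : Fin 2 → F) ≠ 0 := by
    intro h
    have e := c10 1
    rw [h, tv_zero_right] at e
    have e2 := (map_eq_one_iff (conjSL K) (conjSL K).injective).mp e
    have e3 := mk_X_ne_one (F := F) hne01.symm one_ne_zero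
    rw [e2, QuotientGroup.mk_one] at e3
    exact e3 rfl
  obtain ⟨c, hc⟩ := (par_of_orth_two ha0 o1 h0).exists_smul hχ1
  obtain ⟨c', hc'⟩ := (par_of_orth_two ha1 o0 h1).exists_smul hχ0
  have f01 : ∀ t : F, ∃ u : F, β (QuotientGroup.mk (X 0 1 t)) = QuotientGroup.mk (conjSL K (X 0 1 u)) := by
    intro t
    obtain ⟨t', e⟩ := k0 t
    refine ⟨c * t', ?_⟩
    rw [e, c01, hc, ← tv_smul_comm, smul_smul]
  have f10 : ∀ t : F, ∃ u : F, β (QuotientGroup.mk (X 1 0 t)) = QuotientGroup.mk (conjSL K (X 1 0 u)) := by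
    intro t
    obtain ⟨t', e⟩ := k1 t
    refine ⟨c' * t', ?_⟩
    rw [e, c10, hc', ← tv_smul_comm, smul_smul]
  choose σ hσ using f01
  choose ρ hρ using f10
  obtain ⟨g, τ, hg⟩ := two_final ((cG K)⁻¹ * β) σ ρ
    (fun t => by
      rw [MulAut.mul_apply, hσ, ← cG_mk, ← MulAut.mul_apply, inv_mul_cancel]; rfl)
    (fun t => by
      rw [MulAut.mul_apply, hρ, ← cG_mk, ← MulAut.mul_apply, inv_mul_cancel]; rfl)
  refine ⟨K * g, τ, ?_⟩
  rw [map_mul, mul_assoc, ← hg, mul_inv_cancel_left]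

end Cfsg.Agent.Lib.Helper43.PA
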